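import Mathlib
import Groth.Agent.BlowUpBasics.Universal
import Groth.Agent.GrpschAbsch.SchDense

/-! The complement of an effective Cartier divisor. -/

set_option autoImplicit false

universe u

open CategoryTheory AlgebraicGeometry TopologicalSpace Opposite

noncomputable section

namespace Groth.RhoShLib

variable {X : Scheme.{u}} {J : X.IdealSheafData}

theorem isAffineHom_compl_ι (hJ : BlowUp.IsEffCartierIdeal J) :
    IsAffineHom (Scheme.Opens.ι (X := X) J.support.compl) := by
  refine isAffineHom_of_forall_exists_isAffineOpen _ fun x => ?_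
  obtain ⟨U, hxU, f, -, hf⟩ := hJ x
  refine ⟨U.1, hxU, U.2, ?_⟩
  rw [← (Scheme.Opens.ι (X := X) J.support.compl).isAffineOpen_iff_of_isOpenImmersion,
    Scheme.Hom.image_preimage_eq_opensRange_inf, Scheme.Opens.opensRange_ι]
  have e : J.support.compl ⊓ U.1 = X.basicOpen f := by
    ext y
    refine ⟨fun ⟨hy, hyU⟩ => ?_, fun hy => ⟨fun hyJ => ?_, X.basicOpen_le f hy⟩⟩
    · by_contra hn
      refine hy ((Scheme.IdealSheafData.mem_support_iff_of_mem hyU).2 ?_)
      rw [hf, Scheme.zeroLocus_span, Scheme.mem_zeroLocus_iff]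
      rintro _ rfl
      exact hn
    · have h := (Scheme.IdealSheafData.mem_support_iff_of_mem (X.basicOpen_le f hy)).mp hyJ
      rw [hf, Scheme.zeroLocus_span, Scheme.mem_zeroLocus_iff] at h
      exact h f rfl hy
  rw [e]
  exact U.2.basicOpen f

theorem res_injective_compl (hJ : BlowUp.IsEffCartierIdeal J) (O : X.Opens) :
    Function.Injective (X.presheaf.map (homOfLE (inf_le_left : O ⊓ J.support.compl ≤ O)).op) := by
  haveI := isAffineHom_compl_ι hJ
  haveI := Groth.BlowUpBasics.isSchemeTheoreticallyDominant_compl hJ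
  have h := (Scheme.Opens.ι (X := X) J.support.compl).app_injective O
  rw [Scheme.Opens.ι_app] at h
  have key : ∀ (W : X.Opens) (_ : W = O ⊓ J.support.compl) (hW : W ≤ O),
      Function.Injective (X.presheaf.map (homOfLE hW).op) →
      Function.Injective (X.presheaf.map (homOfLE (inf_le_left : O ⊓ J.support.compl ≤ O)).op) := by
    rintro W rfl hW h; exact h
  exact key _ (by rw [Scheme.Hom.image_preimage_eq_opensRange_inf, Scheme.Opens.opensRange_ι, inf_comm]) _ h

/-- Morphisms to a separated scheme agreeing off the divisor agree. -/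
theorem ext_compl (hJ : BlowUp.IsEffCartierIdeal J) {O Y Z : Scheme.{u}} (j : O ⟶ X) [IsOpenImmersion j]
    (p : Y ⟶ Z) [IsSeparated p] {u v : O ⟶ Y} (h : u ≫ p = v ≫ p)
    (hU : (j ⁻¹ᵁ J.support.compl).ι ≫ u = (j ⁻¹ᵁ J.support.compl).ι ≫ v) : u = v := by
  have hJO := Groth.BlowUpBasics.isEffCartierIdeal_comap_of_flat j hJ
  have e : (J.comap j).support.compl = j ⁻¹ᵁ J.support.compl := by
    ext y; simp [TopologicalSpace.Closeds.compl, Scheme.IdealSheafData.support_comap]
  haveI : IsSchemeTheoreticallyDominant (j ⁻¹ᵁ J.support.compl).ι := by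
    rw [← e]; exact Groth.BlowUpBasics.isSchemeTheoreticallyDominant_compl hJO
  exact Groth.GrpschAbsch.ext_of_isSchemeTheoreticallyDominant p h _ hU

end Groth.RhoShLib
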