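import Groth.Agent.RhoShLib.Extend
import Groth.Agent.RefRank.HomSec
import Groth.Agent.VectorBundles.RefHullStalk
import Groth.Agent.Misc6.BidualLocFree
import Groth.Agent.LocFree.ExtPow

/-! Sheaf Hom into a sheaf with the Hartogs property; biduality for modules with local rank one bases. -/

set_option autoImplicit false

universe u

open CategoryTheory AlgebraicGeometry TopologicalSpace Opposite

noncomputable section

namespace Groth.RhoShLib

open Groth.QCohMod Groth.RefRank Groth.VectorBundles.RefHullStalk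
open Groth.PicAux (Basis')

variable {X : Scheme.{u}}

/-- Sections extend uniquely across the complement of `U`. -/
def GoodRes (U : X.Opens) (G : X.Modules) : Prop :=
  ∀ W : X.Opens, Function.Bijective (res G (inf_le_left : W ⊓ U ≤ W))

theorem goodRes_homSh {U : X.Opens} (A : X.Modules) {G : X.Modules} (hG : GoodRes U G) :
    GoodRes U (RefHull.homSh A G) := by
  intro W
  refine ⟨fun (g g' : Γ(RefHull.homSh A G, W)) h => hom_ext_sec fun ⟨y, hy⟩ => LinearMap.ext fun v => ?_, fun g => ?_⟩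
  · obtain ⟨V, hyV, m, rfl⟩ := exists_germ A y v
    rw [← germ_res A (inf_le_left : V ⊓ W ≤ V) y ⟨hyV, hy⟩ m]
    set m' := res A (inf_le_left : V ⊓ W ≤ V) m
    rw [← germ_applySec g (inf_le_right : V ⊓ W ≤ W) m' y ⟨hyV, hy⟩,
      ← germ_applySec g' (inf_le_right : V ⊓ W ≤ W) m' y ⟨hyV, hy⟩]
    congr 1
    refine (hG _).1 (mod_section_ext G fun z hz => ?_)
    rw [germ_res, germ_res, germ_applySec, germ_applySec]
    exact LinearMap.congr_fun (congrFun (congrArg Subtype.val h) ⟨z, hz.1.2, hz.2⟩) _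
  · let E : ∀ (V : X.Opens) (_ : V ≤ W), Γ(A, V) → Γ(G, V) := fun V hV m =>
      Function.surjInv (hG V).2 (applySec g (inf_le_inf_right U hV) (res A inf_le_left m))
    have hE : ∀ (V : X.Opens) (hV : V ≤ W) (m : Γ(A, V)) (z : X) (hzV : z ∈ V) (hzU : z ∈ U),
        germ G z hzV (E V hV m) = g.1 ⟨z, hV hzV, hzU⟩ (germ A z hzV m) := by
      intro V hV m z hzV hzU
      rw [← germ_res G (inf_le_left : V ⊓ U ≤ V) z ⟨hzV, hzU⟩]
      erw [Function.surjInv_eq (hG V).2, germ_applySec]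
      rw [germ_res]
    have hres : ∀ (V : X.Opens) (hV : V ≤ W) (V' : X.Opens) (h : V' ≤ V) (m : Γ(A, V)),
        res G h (E V hV m) = E V' (h.trans hV) (res A h m) := by
      intro V hV V' h m
      refine (hG V').1 (mod_section_ext G fun z hz => ?_)
      rw [germ_res, germ_res, germ_res, hE V hV m z (h hz.1) hz.2, hE V' (h.trans hV) _ z hz.1 hz.2, germ_res]
    have wd : ∀ (x : X) (V V' : X.Opens) (hV : V ≤ W) (hV' : V' ≤ W) (hx : x ∈ V) (hx' : x ∈ V')
        (m : Γ(A, V)) (m' : Γ(A, V')), germ A x hx m = germ A x hx' m' →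
        germ G x hx (E V hV m) = germ G x hx' (E V' hV' m') := by
      intro x V V' hV hV' hx hx' m m' e
      obtain ⟨B, hxB, h1, h2, e'⟩ := Groth.VectorBundles.RefHullStalk.exists_res_eq A x hx hx' m m' e
      rw [← germ_res G h1 x hxB, ← germ_res G h2 x hxB, hres V hV B h1, hres V' hV' B h2, e']
    have rep : ∀ (x : W) (v : A.presheaf.stalk x.1),
        ∃ (V : X.Opens) (hx : x.1 ∈ V) (_ : V ≤ W) (m : Γ(A, V)), germ A x.1 hx m = v := by
      intro x v
      obtain ⟨V, hxV, m, rfl⟩ := exists_germ A x.1 v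
      exact ⟨V ⊓ W, ⟨hxV, x.2⟩, inf_le_right, res A inf_le_left m, germ_res A _ x.1 _ m⟩
    choose RV hRx hRW Rm hRm using rep
    let f0 : ∀ x : W, A.presheaf.stalk x.1 → G.presheaf.stalk x.1 := fun x v =>
      germ G x.1 (hRx x v) (E _ (hRW x v) (Rm x v))
    have key : ∀ (x : W) (V : X.Opens) (hV : V ≤ W) (hx : x.1 ∈ V) (m : Γ(A, V)),
        f0 x (germ A x.1 hx m) = germ G x.1 hx (E V hV m) :=
      fun x V hV hx m => wd x.1 _ V (hRW x _) hV (hRx x _) hx _ m (hRm x _)
    have hadd : ∀ (V : X.Opens) (hV : V ≤ W) (m m' : Γ(A, V)), E V hV (m + m') = E V hV m + E V hV m' := by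
      intro V hV m m'
      refine (hG V).1 (mod_section_ext G fun z hz => ?_)
      rw [germ_res, germ_res, hE V hV _ z hz.1 hz.2, map_add, map_add, map_add, hE V hV _ z hz.1 hz.2,
        hE V hV _ z hz.1 hz.2]
    have hsmul : ∀ (V : X.Opens) (hV : V ≤ W) (r : Γ(X, V)) (m : Γ(A, V)), E V hV (r • m) = r • E V hV m := by
      intro V hV r m
      refine (hG V).1 (mod_section_ext G fun z hz => ?_)
      rw [germ_res, germ_res, hE V hV _ z hz.1 hz.2, germ_smul, germ_smul, hE V hV _ z hz.1 hz.2]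
      exact map_smul (g.1 ⟨z, _⟩) _ _
    let f : ∀ x : W, RefHull.StalkHom A G x.1 := fun x =>
      { toFun := f0 x
        map_add' := fun s t => by
          obtain ⟨V, hxV, m, rfl⟩ := exists_germ A x.1 s
          obtain ⟨V', hxV', m', rfl⟩ := exists_germ A x.1 t
          rw [← germ_res A (inf_le_left.trans inf_le_left : V ⊓ V' ⊓ W ≤ V) x.1 ⟨⟨hxV, hxV'⟩, x.2⟩ m,
            ← germ_res A (inf_le_left.trans inf_le_right : V ⊓ V' ⊓ W ≤ V') x.1 ⟨⟨hxV, hxV'⟩, x.2⟩ m',
            ← map_add, key x (V ⊓ V' ⊓ W) inf_le_right, key x (V ⊓ V' ⊓ W) inf_le_right, key x (V ⊓ V' ⊓ W) inf_le_right, hadd (V ⊓ V' ⊓ W) inf_le_right, map_add]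
        map_smul' := fun a t => by
          obtain ⟨B, hxB, r, rfl⟩ := TopCat.Presheaf.exists_germ_eq X.presheaf a
          obtain ⟨V', hxV', m', rfl⟩ := exists_germ A x.1 t
          rw [← TopCat.Presheaf.germ_res_apply X.presheaf
              (homOfLE (inf_le_left.trans inf_le_left : B ⊓ V' ⊓ W ≤ B)) x.1 ⟨⟨hxB, hxV'⟩, x.2⟩ r,
            ← germ_res A (inf_le_left.trans inf_le_right : B ⊓ V' ⊓ W ≤ V') x.1 ⟨⟨hxB, hxV'⟩, x.2⟩ m',
            RingHom.id_apply, ← germ_smul, key x (B ⊓ V' ⊓ W) inf_le_right, key x (B ⊓ V' ⊓ W) inf_le_right, hsmul (B ⊓ V' ⊓ W) inf_le_right, germ_smul] }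
    refine ⟨⟨f, fun V i m z => ⟨V, z.2, 𝟙 V, E V i.le m, fun y => key _ V i.le y.2 m⟩⟩,
      hom_ext_sec fun ⟨y, hy⟩ => LinearMap.ext fun v => ?_⟩
    obtain ⟨V, hyV, m, rfl⟩ := exists_germ A y v
    rw [← germ_res A (inf_le_left : V ⊓ W ≤ V) y ⟨hyV, hy.1⟩ m]
    exact (key ⟨y, hy.1⟩ (V ⊓ W) inf_le_right ⟨hyV, hy.1⟩ _).trans (hE (V ⊓ W) inf_le_right _ y ⟨hyV, hy.1⟩ hy.2)

theorem goodRes_structure {S : Scheme.{u}} (f : X ⟶ S) [Smooth f] (U : X.Opens) (hU : IsBig f U) :
    GoodRes U (Coh.structureModule X) := by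
  have hinj : ∀ W : X.Opens, Function.Injective (res (Coh.structureModule X) (inf_le_left : W ⊓ U ≤ W)) :=
    fun W => (injective_iff_map_eq_zero _).2 fun t ht => eq_zero_of_res f U hU W t ht
  intro W
  refine ⟨hinj W, fun σ => ?_⟩
  choose N hxN hNW hb using fun p : W => bijective_res f U hU p.1 W p.2
  choose t ht using fun p : W => (hb p).2 (res (Coh.structureModule X) (inf_le_inf_right U (hNW p)) σ)
  replace ht : ∀ p : W, res (Coh.structureModule X) (inf_le_left : (N p).1 ⊓ U ≤ (N p).1) (t p) =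
    res (Coh.structureModule X) (inf_le_inf_right U (hNW p)) σ := ht
  obtain ⟨s, hs⟩ := CohTwo.exists_glue (Coh.structureModule X) (fun p : W => (N p).1) hNW
    (fun x hx => ⟨⟨x, hx⟩, hxN _⟩) t (fun p q => by
      refine hinj _ (mod_section_ext _ fun z hz => ?_)
      erw [germ_res, germ_res, germ_res, germ_res]
      have h1 := congrArg (germ _ z (⟨hz.1.1, hz.2⟩ : z ∈ (N p).1 ⊓ U)) (ht p)
      have h2 := congrArg (germ _ z (⟨hz.1.2, hz.2⟩ : z ∈ (N q).1 ⊓ U)) (ht q)
      rw [germ_res, germ_res] at h1 h2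
      exact h1.trans h2.symm)
  refine ⟨s, mod_section_ext _ fun z hz => ?_⟩
  have h1 := congrArg (germ _ z (⟨hxN ⟨z, hz.1⟩, hz.2⟩ : z ∈ (N ⟨z, hz.1⟩).1 ⊓ U)) (ht ⟨z, hz.1⟩)
  rw [germ_res, germ_res] at h1
  rw [germ_res, ← germ_res _ (hNW ⟨z, hz.1⟩) z (hxN _) s]
  erw [hs]
  exact h1

theorem isIso_unit_of_goodRes {U : X.Opens} {G : X.Modules} (hG : GoodRes U G) :
    IsIso ((Scheme.Modules.restrictAdjunction U.ι).unit.app G) := by
  rw [Scheme.Modules.Hom.isIso_iff_isIso_app]
  intro W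
  rw [ConcreteCategory.isIso_iff_bijective, Scheme.Modules.restrictAdjunction_unit_app_app]
  have key : ∀ (W' : X.Opens) (h : W' ≤ W), W' = W ⊓ U → Function.Bijective (res G h) := by
    rintro W' h rfl; exact hG W
  exact key (U.ι ''ᵁ U.ι ⁻¹ᵁ W) (U.ι.image_preimage_le W)
    (by rw [Scheme.Hom.image_preimage_eq_opensRange_inf, Scheme.Opens.opensRange_ι, inf_comm])

/-- Data from a basis. -/
theorem data_of_basis {M : X.Modules} {V : X.Opens} {n : ℕ} {s : Fin n → Γ(M, V)} (hs : Basis' M V s) :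
    Spans M (fun i : ULift.{u} (Fin n) => s i.down) ∧
      Rels M (fun i : ULift.{u} (Fin n) => s i.down) (fun j : PEmpty.{u + 1} => j.elim) := by
  refine ⟨fun y hy => ?_, fun j => j.elim, fun y hy c hc => ?_⟩
  · refine eq_top_iff.2 fun t _ => ?_
    obtain ⟨W, hyW, m, rfl⟩ := exists_germ M y t
    obtain ⟨r, hr⟩ := (hs (V ⊓ W) inf_le_left).2 (res M inf_le_right m)
    have hy' : y ∈ V ⊓ W := ⟨hy, hyW⟩
    rw [← germ_res M inf_le_right y hy' m, ← hr, germ_sum_smul]
    refine Submodule.sum_mem _ fun i _ => Submodule.smul_mem _ _ ?_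
    refine Submodule.subset_span ⟨⟨i⟩, ?_⟩
    exact (germ_res M inf_le_left y hy' (s i)).symm
  · suffices c = 0 from this ▸ Submodule.zero_mem _
    choose A hA q hq using fun i => TopCat.Presheaf.exists_germ_eq X.presheaf (c i)
    obtain ⟨B, hyB, hBU, hBA⟩ := exists_open_forall (x := y) (V := V) hy
      (fun i B => B ≤ A i) (fun _ _ _ h h' => h.trans h') (fun i => ⟨A i, hA i, le_rfl⟩)
    have h0 : germ M y hyB (∑ i, resFun X (hBA i) (q i) • res M hBU (s i.down)) = germ M y hyB 0 := by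
      rw [map_zero, germ_sum_smul, ← hc]
      refine Finset.sum_congr rfl fun i _ => ?_
      rw [germ_res, ← hq i]
      congr 1
      exact TopCat.Presheaf.germ_res_apply X.presheaf (homOfLE (hBA i)) y hyB (q i)
    obtain ⟨W, hyW, h1, _, e⟩ :=
      Groth.VectorBundles.RefHullStalk.exists_res_eq M y hyB hyB _ _ h0
    rw [map_zero, map_sum] at e
    simp only [res_smul, res_res, resFun_resFun] at e
    have hz := (hs W (h1.trans hBU)).1 (a₁ := fun i => resFun X (h1.trans (hBA ⟨i⟩)) (q ⟨i⟩))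
      (a₂ := 0) (by
        simp only [Pi.zero_apply, zero_smul, Finset.sum_const_zero]
        rw [← e]
        exact (Fintype.sum_equiv Equiv.ulift _ _ fun i => rfl).symm)
    funext i
    have e3 := congrArg (X.presheaf.germ W y hyW) (congrFun hz i.down)
    rw [← hq i]
    refine (TopCat.Presheaf.germ_res_apply X.presheaf (homOfLE (h1.trans (hBA i))) y hyW (q i)).symm.trans
      (e3.trans (map_zero _))

/-- A module with a one element basis near `x` has bijective biduality map at `x`. -/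
theorem bidual_bijective_of_basis_one {M : X.Modules} {V : X.Opens} {t : Fin 1 → Γ(M, V)} (ht : Basis' M V t)
    {x : X} (hx : x ∈ V) : Function.Bijective (RefHull.stalkMapₗ (RefHull.bidualMap M) x) := by
  obtain ⟨hs, hr⟩ := data_of_basis ht
  let O := Coh.structureModule X
  let hev := fun (y : X) (hy : y ∈ V) => evalStalk_bijective O hs hr hy
  obtain ⟨g0, hg0⟩ := exists_section O hs hr (le_refl V) (fun _ => oneSec V) (fun j => j.elim)
  let θ : Γ(RefHull.dual M, V) := g0
  have hθ : ∀ (y : X) (hy : y ∈ V), θ.1 ⟨y, hy⟩ (germ M y hy (t 0)) = germ O y hy (oneSec V) :=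
    fun y hy => hg0 y hy ⟨0⟩
  have hgen : ∀ (y : X) (hy : y ∈ V) (v : O.presheaf.stalk y),
      ∃! a : X.presheaf.stalk y, a • germ O y hy (oneSec V) = v := by
    intro y hy v
    rw [show germ O y hy (oneSec V) = oneEquiv y 1 by
      rw [Groth.VectorBundles.RefHullStalk.germ_structureModule, oneEquiv_apply, one_smul]
      exact (congrArg (· • _) (map_one _)).trans (one_smul _ _)]
    refine ⟨(oneEquiv y).symm v, ?_, fun a ha => ?_⟩
    · show _ • oneEquiv y 1 = v
      rw [← map_smul, smul_eq_mul, mul_one, LinearEquiv.apply_symm_apply]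
    · rw [← ha, ← map_smul, smul_eq_mul, mul_one, LinearEquiv.symm_apply_apply]
  have hsd : Spans (RefHull.dual M) (fun _ : PUnit.{u + 1} => θ) := by
    refine fun y hy => eq_top_iff.2 fun φ _ => ?_
    obtain ⟨a, ha, -⟩ := hgen y hy (RefHull.evalStalk M O y φ (germ M y hy (t 0)))
    refine Submodule.mem_span_range_iff_exists_fun _ |>.2 ⟨fun _ => a, ?_⟩
    rw [Fintype.sum_unique]
    refine (hev y hy).1 (Groth.VectorBundles.RefHullStalk.stalkHom_ext hs hy fun i => ?_)
    rw [map_smul, LinearMap.smul_apply]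
    erw [RefHull.evalStalk_germ]
    rw [show i.down = 0 from Subsingleton.elim _ _]
    erw [hθ]
    exact ha
  have hrd : Rels (RefHull.dual M) (fun _ : PUnit.{u + 1} => θ) (fun j : PEmpty.{u + 1} => j.elim) := by
    refine ⟨fun j => j.elim, fun y hy c hc => ?_⟩
    rw [Fintype.sum_unique] at hc
    have h1 := LinearMap.congr_fun (congrArg (RefHull.evalStalk M O y) hc) (germ M y hy (t 0))
    rw [map_smul, LinearMap.smul_apply, map_zero, LinearMap.zero_apply] at h1
    erw [RefHull.evalStalk_germ, hθ] at h1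
    have h2 : c default = 0 := (hgen y hy 0).unique h1 (zero_smul _ _)
    suffices c = 0 from this ▸ Submodule.zero_mem _
    funext i
    exact h2
  have hb := evalStalk_bijective O hsd hrd hx
  let ε := (oneEquiv x).symm
  let E : (RefHull.dual M).presheaf.stalk x ≃ₗ[X.presheaf.stalk x]
      Module.Dual (X.presheaf.stalk x) (M.presheaf.stalk x) :=
    (LinearEquiv.ofBijective _ (evalStalk_bijective O hs hr hx)).trans (LinearEquiv.congrRight ε)
  let Ψ : RefHull.StalkHom (RefHull.dual M) O x ≃ₗ[X.presheaf.stalk x]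
      Module.Dual (X.presheaf.stalk x) (Module.Dual (X.presheaf.stalk x) (M.presheaf.stalk x)) :=
    LinearEquiv.arrowCongr E ε
  have h1 : ⇑(Module.Dual.eval (X.presheaf.stalk x) (M.presheaf.stalk x)) =
      Ψ ∘ RefHull.evalStalk (RefHull.dual M) O x ∘ RefHull.stalkMapₗ (RefHull.bidualMap M) x := by
    funext v
    refine LinearMap.ext fun φ => ?_
    simp only [O, Function.comp_apply, stalkMapₗ_bidualMap, Ψ, LinearEquiv.arrowCongr_apply,
      RefHull.bidualAt_apply, Module.Dual.eval_apply]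
    conv_lhs => rw [← E.apply_symm_apply φ]
    rfl
  let B := Module.Basis.mk (R := X.presheaf.stalk x) (v := fun i : ULift.{u} (Fin 1) => germ M x hx (t i.down))
    (Fintype.linearIndependent_iff.2 fun c hc => congrFun (by
      have := hr.2 x hx c hc
      rwa [Set.range_eq_empty, Submodule.span_empty, Submodule.mem_bot] at this))
    (hs x hx).ge
  haveI : Module.Free (X.presheaf.stalk x) (M.presheaf.stalk x) := Module.Free.of_basis B
  haveI : Module.Finite (X.presheaf.stalk x) (M.presheaf.stalk x) := Module.Finite.of_basis B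
  have hbij : Function.Bijective (Module.Dual.eval (X.presheaf.stalk x) (M.presheaf.stalk x)) :=
    Module.bijective_dual_eval _ _
  rw [h1, Function.Bijective.of_comp_iff' Ψ.bijective, Function.Bijective.of_comp_iff' hb] at hbij
  exact hbij

/-- Restriction to an open on which the stalk maps are bijective. -/
theorem isIso_restrict_of_stalk {A B : X.Modules} (φ : A ⟶ B) (U : X.Opens)
    (h : ∀ x ∈ U, Function.Bijective (RefHull.stalkMapₗ φ x)) :
    IsIso ((Scheme.Modules.restrictFunctor U.ι).map φ) := by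
  rw [Scheme.Modules.Hom.isIso_iff_isIso_app]
  intro W
  rw [ConcreteCategory.isIso_iff_bijective]
  exact TopCat.Presheaf.app_bijective_of_stalkFunctor_map_bijective
    (F := (⟨A.presheaf, A.isSheaf⟩ : TopCat.Sheaf Ab.{u} X)) (G := (⟨B.presheaf, B.isSheaf⟩ : TopCat.Sheaf Ab.{u} X))
    ⟨φ.mapPresheaf⟩ (U.ι ''ᵁ W) fun x hx => h x (Scheme.Opens.ι_image_le U W hx)

/-- A basis of the restriction gives a basis. -/
theorem basis_of_restrict {M : X.Modules} {U : X.Opens} {n : ℕ}
    (h : FlatMod.IsFinLocFreeOfRank n (M.restrict U.ι)) {x : X} (hx : x ∈ U) :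
    ∃ (V : X.Opens) (s : Fin n → Γ(M, V)), IsAffineOpen V ∧ x ∈ V ∧ Basis' M V s := by
  obtain ⟨V, s, hV, hxV, hs⟩ := Groth.LocFree.exists_affine_basis_ofRank h ⟨x, hx⟩
  refine ⟨U.ι ''ᵁ V, s, hV.image_of_isOpenImmersion _, ⟨⟨x, hx⟩, hxV, rfl⟩, fun W hW => ?_⟩
  obtain ⟨W', rfl⟩ : ∃ W' : (U : Scheme.{u}).Opens, U.ι ''ᵁ W' = W :=
    ⟨U.ι ⁻¹ᵁ W, by
      rw [Scheme.Hom.image_preimage_eq_opensRange_inf, Scheme.Opens.opensRange_ι]
      exact inf_eq_right.2 (hW.trans (Scheme.Opens.ι_image_le U V))⟩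
  have hWV : W' ≤ V := (U.ι.image_le_image_iff _ _).1 hW
  have := hs W' hWV
  refine (Iff.of_eq (congrArg Function.Bijective (funext fun r => ?_))).1 this
  refine Finset.sum_congr rfl fun i _ => ?_
  exact Groth.PicAux.restrict_smul U W' _ _

theorem basis_one_of_extPow {F L : X.Modules} [F.IsQuasicoherent] {n : ℕ} (hL : ExtPow.IsExtPow n F L)
    {V : X.Opens} (hV : IsAffineOpen V) {s : Fin n → Γ(F, V)} (hs : Basis' F V s) :
    ∃ t : Fin 1 → Γ(L, V), Basis' L V t := by
  obtain ⟨t, ht⟩ := Groth.LocFree.exists_basis'_extPow hV hs n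
  rw [← Nat.choose_self n]
  exact ⟨_, ht.map (Groth.LocFree.nonempty_iso_extPow hL).some.hom⟩

end Groth.RhoShLib
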