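import Mathlib

/-! A property of morphisms from affine schemes cut out by ideals on affine opens is represented by a closed subscheme. -/

set_option autoImplicit false

universe u

open CategoryTheory AlgebraicGeometry TopologicalSpace Opposite

noncomputable section

namespace Groth.RhoShLib

variable {S : Scheme.{u}}

theorem specMap_fromSpec_preimage {U : S.Opens} (hU : IsAffineOpen U) {R : CommRingCat.{u}} (φ : Γ(S, U) ⟶ R) :
    (⊤ : (Spec R).Opens) ≤ (Spec.map φ ≫ hU.fromSpec) ⁻¹ᵁ U := by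
  rw [Scheme.Hom.comp_preimage, hU.fromSpec_preimage_self]
  exact le_rfl

theorem specMap_fromSpec_appLE {U : S.Opens} (hU : IsAffineOpen U) {R : CommRingCat.{u}} (φ : Γ(S, U) ⟶ R) :
    (Spec.map φ ≫ hU.fromSpec).appLE U ⊤ (specMap_fromSpec_preimage hU φ) = φ ≫ (Scheme.ΓSpecIso R).inv := by
  rw [Scheme.Hom.comp_appLE]
  rw [hU.fromSpec_app_self, Category.assoc, Scheme.Hom.map_appLE]
  rw [show (Spec.map φ).appLE ⊤ ⊤ (by simp) = (Spec.map φ).appTop from (Scheme.Hom.app_eq_appLE _).symm]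
  rw [← Scheme.ΓSpecIso_inv_naturality φ]

theorem ker_comp_inv {U : S.Opens} {R : CommRingCat.{u}} (φ : Γ(S, U) ⟶ R) :
    RingHom.ker (φ ≫ (Scheme.ΓSpecIso R).inv).hom = RingHom.ker φ.hom :=
  RingHom.ker_equiv_comp φ.hom (Scheme.ΓSpecIso R).symm.commRingCatIsoToRingEquiv

theorem exists_closed_representing (Φ : ∀ T : Scheme.{u}, (T ⟶ S) → Prop)
    (hlocal : ∀ (T : Scheme.{u}) (g : T ⟶ S), IsAffine T → ∀ (t : T → Γ(T, ⊤)), (∀ x : T, x ∈ T.basicOpen (t x)) →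
      (∀ x : T, Φ (T.basicOpen (t x)) ((T.basicOpen (t x)).ι ≫ g)) → Φ T g)
    (hmono : ∀ (T T' : Scheme.{u}) (g : T ⟶ S) (h : T' ⟶ T), IsAffine T → IsAffine T' → Φ T g → Φ T' (h ≫ g))
    (hJ : ∀ U : S.affineOpens, ∃ J : Ideal Γ(S, U.1), ∀ (T : Scheme.{u}) (g : T ⟶ S), IsAffine T →
      ∀ hg : ⊤ ≤ g ⁻¹ᵁ U.1, (Φ T g ↔ J ≤ RingHom.ker (g.appLE U.1 ⊤ hg).hom)) :
    ∃ (Z : Scheme.{u}) (i : Z ⟶ S), IsClosedImmersion i ∧
      ∀ (T : Scheme.{u}) (g : T ⟶ S), IsAffine T → ((∃ h : T ⟶ Z, h ≫ i = g) ↔ Φ T g) := by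
  choose J hJ using hJ
  have hbasic : ∀ (U : S.affineOpens) (f : Γ(S, U.1)),
      (J U).map (S.presheaf.map (homOfLE (S.basicOpen_le f)).op).hom = J (S.affineBasicOpen f) := by
    intro U f
    have key : ∀ K : Ideal Γ(S, S.basicOpen f),
        ((J U).map (S.presheaf.map (homOfLE (S.basicOpen_le f)).op).hom ≤ K ↔ J (S.affineBasicOpen f) ≤ K) := by
      intro K
      let R : CommRingCat.{u} := CommRingCat.of (Γ(S, S.basicOpen f) ⧸ K)
      let φ : Γ(S, S.basicOpen f) ⟶ R := CommRingCat.ofHom (Ideal.Quotient.mk K)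
      have hV := (S.affineBasicOpen f).2
      let g : Spec R ⟶ S := Spec.map φ ≫ IsAffineOpen.fromSpec hV
      have h1 : ⊤ ≤ g ⁻¹ᵁ S.basicOpen f := specMap_fromSpec_preimage hV φ
      have h2 : ⊤ ≤ g ⁻¹ᵁ U.1 := h1.trans (g.preimage_mono (S.basicOpen_le f))
      have e1 := hJ (S.affineBasicOpen f) (Spec R) g inferInstance h1
      have e2 := hJ U (Spec R) g inferInstance h2
      have hl : g.appLE (S.basicOpen f) ⊤ h1 = φ ≫ (Scheme.ΓSpecIso R).inv := specMap_fromSpec_appLE hV φ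
      change Φ (Spec R) g ↔ J (S.affineBasicOpen f) ≤ RingHom.ker (g.appLE (S.basicOpen f) ⊤ h1).hom at e1
      rw [hl, ker_comp_inv] at e1
      have e3 : g.appLE U.1 ⊤ h2 = S.presheaf.map (homOfLE (S.basicOpen_le f)).op ≫ g.appLE (S.basicOpen f) ⊤ h1 :=
        (Scheme.Hom.map_appLE g h1 (homOfLE (S.basicOpen_le f)).op).symm
      rw [e3, hl, ← Category.assoc, ker_comp_inv, CommRingCat.hom_comp,
        ← RingHom.comap_ker, ← Ideal.map_le_iff_le_comap] at e2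
      have hk : RingHom.ker φ.hom = K := Ideal.mk_ker
      rw [hk] at e1 e2
      exact e2.symm.trans e1
    exact le_antisymm ((key _).2 le_rfl) ((key _).1 le_rfl)
  let I : S.IdealSheafData := { ideal := J, map_ideal_basicOpen := hbasic }
  refine ⟨I.subscheme, I.subschemeι, inferInstance, fun T g hT => ⟨?_, fun hΦ => ?_⟩⟩
  · rintro ⟨h, rfl⟩
    have hcov : ∀ x : T, ∃ (t : Γ(T, ⊤)) (U : S.affineOpens),
        x ∈ T.basicOpen t ∧ T.basicOpen t ≤ (h ≫ I.subschemeι) ⁻¹ᵁ U.1 := by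
      intro x
      obtain ⟨U, hU, hxU, -⟩ := exists_isAffineOpen_mem_and_subset (x := (h ≫ I.subschemeι) x) (Opens.mem_top _)
      obtain ⟨t, ht, hxt⟩ := (isAffineOpen_top T).exists_basicOpen_le
        (V := (h ≫ I.subschemeι) ⁻¹ᵁ U) ⟨x, hxU⟩ trivial
      exact ⟨t, ⟨U, hU⟩, hxt, ht⟩
    choose t U hxt htU using hcov
    refine hlocal T _ hT t hxt fun x => ?_
    haveI : IsAffine (T.basicOpen (t x)) := (isAffineOpen_top T).basicOpen (t x)
    have hg : ⊤ ≤ ((T.basicOpen (t x)).ι ≫ h ≫ I.subschemeι) ⁻¹ᵁ (U x).1 :=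
      fun z _ => htU x z.2
    refine (hJ (U x) _ _ inferInstance hg).2 fun j hj => ?_
    have : I.subschemeι.app (U x).1 j = 0 := by
      rw [← RingHom.mem_ker, I.ker_subschemeι_app]; exact hj
    show (((T.basicOpen (t x)).ι ≫ h) ≫ I.subschemeι).appLE (U x).1 ⊤ hg j = 0
    rw [Scheme.Hom.comp_appLE, CommRingCat.comp_apply, this, map_zero]
  · haveI : IsClosedImmersion I.subschemeι := inferInstance
    refine ⟨IsClosedImmersion.lift I.subschemeι g ?_, IsClosedImmersion.lift_fac _ _ _⟩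
    rw [I.ker_subschemeι]
    refine Scheme.IdealSheafData.le_ofIdeals_iff.2 fun U j hj => ?_
    show g.app U.1 j = 0
    have hcov : ∀ z : ↥(g ⁻¹ᵁ U.1), ∃ t : Γ(T, ⊤), T.basicOpen t ≤ g ⁻¹ᵁ U.1 ∧ z.1 ∈ T.basicOpen t :=
      fun z => (isAffineOpen_top T).exists_basicOpen_le z trivial
    choose t ht hzt using hcov
    refine T.sheaf.eq_of_locally_eq' (fun z : ↥(g ⁻¹ᵁ U.1) => T.basicOpen (t z)) _ (fun z => homOfLE (ht z))
      (fun z hz => Opens.mem_iSup.2 ⟨⟨z, hz⟩, hzt _⟩) _ _ fun z => ?_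
    refine Eq.trans ?_ (map_zero (T.sheaf.obj.map (homOfLE (ht z)).op).hom).symm
    haveI : IsAffine (T.basicOpen (t z)) := (isAffineOpen_top T).basicOpen (t z)
    have hg : ⊤ ≤ ((T.basicOpen (t z)).ι ≫ g) ⁻¹ᵁ U.1 := fun w _ => ht z w.2
    have h0 : ((T.basicOpen (t z)).ι ≫ g).appLE U.1 ⊤ hg j = 0 :=
      (hJ U _ _ inferInstance hg).1 (hmono T _ g _ hT inferInstance hΦ) hj
    rw [Scheme.Hom.comp_appLE, CommRingCat.comp_apply, Scheme.Opens.ι_appLE] at h0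
    have key : ∀ (O O' : T.Opens) (_ : O' = O) (hO : O ≤ g ⁻¹ᵁ U.1) (hO' : O' ≤ g ⁻¹ᵁ U.1) (x : Γ(T, g ⁻¹ᵁ U.1)),
        T.presheaf.map (homOfLE hO').op x = 0 → T.presheaf.map (homOfLE hO).op x = 0 := by
      rintro O O' rfl hO hO' x hx; exact hx
    exact key _ _ (Scheme.Opens.ι_image_top (T.basicOpen (t z))) (ht z) _ _ h0

end Groth.RhoShLib
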