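import Mathlib
import Groth.Agent.RhoShLib.Represent

/-! Morphisms into affine opens. -/

set_option autoImplicit false

universe u

open CategoryTheory AlgebraicGeometry TopologicalSpace Opposite

noncomputable section

namespace Groth.RhoShLib

variable {Y : Scheme.{u}}

theorem hom_ext_affineOpen {D : Y.Opens} (hD : IsAffineOpen D) {W : Scheme.{u}} (u v : W ⟶ Y)
    (hu : ⊤ ≤ u ⁻¹ᵁ D) (hv : ⊤ ≤ v ⁻¹ᵁ D) (h : u.appLE D ⊤ hu = v.appLE D ⊤ hv) : u = v := by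
  haveI : IsAffine D := hD
  have key : ∀ (w : W ⟶ Y) (hw : ⊤ ≤ w ⁻¹ᵁ D), Set.range w.base ⊆ Set.range D.ι.base := by
    rintro w hw _ ⟨z, rfl⟩
    rw [Scheme.Opens.range_ι]
    exact hw (x := z) trivial
  have fu := IsOpenImmersion.lift_fac D.ι u (key u hu)
  have fv := IsOpenImmersion.lift_fac D.ι v (key v hv)
  rw [← fu, ← fv]
  congr 1
  refine ext_of_isAffine ?_
  have key3 : ∀ (w : W ⟶ Y) (l : W ⟶ D.toScheme) (e : l ≫ D.ι = w) (hw : ⊤ ≤ w ⁻¹ᵁ D),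
      w.appLE D ⊤ hw = D.ι.app D ≫ l.appLE (D.ι ⁻¹ᵁ D) ⊤ (by subst e; exact hw) := by
    rintro w l rfl hw
    rw [Scheme.Hom.comp_appLE]
  rw [key3 u _ fu hu, key3 v _ fv hv] at h
  set l₁ := IsOpenImmersion.lift D.ι u (key u hu)
  set l₂ := IsOpenImmersion.lift D.ι v (key v hv)
  haveI : IsIso (D.ι.app D) := Scheme.Hom.isIso_app _ _ (by rw [Scheme.Opens.opensRange_ι])
  have h' := (cancel_epi (D.ι.app D)).1 h
  have e : D.ι ⁻¹ᵁ D = ⊤ := Scheme.Opens.ι_preimage_self D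
  have key2 : ∀ (A : D.toScheme.Opens) (_ : A = ⊤) (h1 : ⊤ ≤ l₁ ⁻¹ᵁ A) (h2 : ⊤ ≤ l₂ ⁻¹ᵁ A),
      l₁.appLE A ⊤ h1 = l₂.appLE A ⊤ h2 → l₁.appTop = l₂.appTop := by
    rintro A rfl h1 h2 hh
    simpa [Scheme.Hom.appLE, Scheme.Hom.appTop] using hh
  exact key2 _ e _ _ h'

theorem exists_hom_affineOpen {D : Y.Opens} (hD : IsAffineOpen D) {P : Scheme.{u}} (O : P.Opens)
    (ψ : Γ(Y, D) ⟶ Γ(P, O)) :
    ∃ (u : (O : Scheme.{u}) ⟶ Y) (hu : ⊤ ≤ u ⁻¹ᵁ D), u.appLE D ⊤ hu = ψ ≫ O.topIso.inv := by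
  have hu : ⊤ ≤ (O.toSpecΓ ≫ Spec.map ψ ≫ hD.fromSpec) ⁻¹ᵁ D := by
    intro z _
    exact specMap_fromSpec_preimage hD ψ (x := O.toSpecΓ z) trivial
  refine ⟨O.toSpecΓ ≫ Spec.map ψ ≫ hD.fromSpec, hu, ?_⟩
  rw [← Scheme.Hom.appLE_comp_appLE O.toSpecΓ (Spec.map ψ ≫ hD.fromSpec) D ⊤ ⊤
    (specMap_fromSpec_preimage hD ψ) le_top, specMap_fromSpec_appLE hD ψ, Category.assoc]
  rw [show O.toSpecΓ.appLE ⊤ ⊤ le_top = O.toSpecΓ.appTop from (Scheme.Hom.app_eq_appLE _).symm,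
    Scheme.Opens.toSpecΓ_appTop, Iso.inv_hom_id_assoc]

end Groth.RhoShLib
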