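import Mathlib

/-! Sections over affine opens of a product with an affine scheme over a field. -/

set_option autoImplicit false

universe u

open CategoryTheory CategoryTheory.Limits AlgebraicGeometry TopologicalSpace TensorProduct

noncomputable section

namespace Groth.RhoShLib

variable {X T P Z : Scheme.{u}}

/-- Functionals on the sections over `W` which are linear over the constants. -/
def Fnl (a : X ⟶ Z) (W : X.Opens) : Type u :=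
  { f : Γ(X, W) →+ Γ(Z, ⊤) // ∀ (κ : Γ(Z, ⊤)) (z : Γ(X, W)), f (a.appLE ⊤ W le_top κ * z) = κ * f z }

variable {a : X ⟶ Z} {c : T ⟶ Z} {q : P ⟶ X} {χ : P ⟶ T}

/-- An elementary product of sections. -/
def elem (q : P ⟶ X) (χ : P ⟶ T) (W : X.Opens) (V : T.Opens) (r : Γ(T, V)) (x : Γ(X, W)) :
    Γ(P, q ⁻¹ᵁ W ⊓ χ ⁻¹ᵁ V) :=
  χ.appLE V _ inf_le_right r * q.appLE W _ inf_le_left x

theorem elem_one_left (W : X.Opens) (V : T.Opens) (x : Γ(X, W)) :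
    elem q χ W V 1 x = q.appLE W _ inf_le_left x := by
  rw [elem, map_one, one_mul]

variable (H : IsPullback q χ a c) [IsAffine Z]

include H in
theorem exists_equiv {W : X.Opens} (hW : IsAffineOpen W) {V : T.Opens} (hV : IsAffineOpen V) :
    letI := (a.appLE ⊤ W le_top).hom.toAlgebra
    letI := (c.appLE ⊤ V le_top).hom.toAlgebra
    ∃ e : Γ(X, W) ⊗[Γ(Z, ⊤)] Γ(T, V) ≃+ Γ(P, q ⁻¹ᵁ W ⊓ χ ⁻¹ᵁ V), ∀ x r, e (x ⊗ₜ r) = elem q χ W V r x := by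
  have hpo := (isIso_pushoutSection_iff H (US := ⊤) (UT := V) (UX := W) le_top le_top
    (UY := q ⁻¹ᵁ W ⊓ χ ⁻¹ᵁ V) rfl).1
    (isIso_pushoutSection_of_isAffineOpen H le_top le_top rfl (isAffineOpen_top Z) hV hW)
  algebraize [(a.appLE ⊤ W le_top).hom, (c.appLE ⊤ V le_top).hom,
    (q.appLE W (q ⁻¹ᵁ W ⊓ χ ⁻¹ᵁ V) inf_le_left).hom, (χ.appLE V (q ⁻¹ᵁ W ⊓ χ ⁻¹ᵁ V) inf_le_right).hom,
    ((q.appLE W (q ⁻¹ᵁ W ⊓ χ ⁻¹ᵁ V) inf_le_left).hom.comp (a.appLE ⊤ W le_top).hom)]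
  haveI : IsScalarTower Γ(Z, ⊤) Γ(T, V) Γ(P, q ⁻¹ᵁ W ⊓ χ ⁻¹ᵁ V) := IsScalarTower.of_algebraMap_eq fun x => by
    show ((a.appLE ⊤ W le_top) ≫ q.appLE W (q ⁻¹ᵁ W ⊓ χ ⁻¹ᵁ V) inf_le_left).hom x =
      ((c.appLE ⊤ V le_top) ≫ χ.appLE V (q ⁻¹ᵁ W ⊓ χ ⁻¹ᵁ V) inf_le_right).hom x
    rw [hpo.w]
  haveI := CommRingCat.isPushout_iff_isPushout.1 hpo
  refine ⟨(Algebra.IsPushout.equiv Γ(Z, ⊤) Γ(X, W) Γ(T, V) Γ(P, q ⁻¹ᵁ W ⊓ χ ⁻¹ᵁ V)).toLinearEquiv.toAddEquiv,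
    fun x r => ?_⟩
  refine (Algebra.IsPushout.equiv_tmul ..).trans ?_
  exact mul_comm _ _

include H in
theorem induction_elem {W : X.Opens} (hW : IsAffineOpen W) {V : T.Opens} (hV : IsAffineOpen V)
    {motive : Γ(P, q ⁻¹ᵁ W ⊓ χ ⁻¹ᵁ V) → Prop} (zero : motive 0) (helem : ∀ r x, motive (elem q χ W V r x))
    (add : ∀ u v, motive u → motive v → motive (u + v)) (z : Γ(P, q ⁻¹ᵁ W ⊓ χ ⁻¹ᵁ V)) : motive z := by
  obtain ⟨e, he⟩ := exists_equiv H hW hV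
  obtain ⟨t, rfl⟩ := e.surjective z
  induction t using TensorProduct.induction_on with
  | zero => rw [map_zero]; exact zero
  | tmul x r => rw [he]; exact helem r x
  | add u v hu hv => rw [map_add]; exact add _ _ hu hv

include H in
theorem exists_fnlExt {W : X.Opens} (hW : IsAffineOpen W) {V : T.Opens} (hV : IsAffineOpen V) (f : Fnl a W) :
    ∃ L : Γ(P, q ⁻¹ᵁ W ⊓ χ ⁻¹ᵁ V) →+ Γ(T, V), ∀ r x, L (elem q χ W V r x) = r * c.appLE ⊤ V le_top (f.1 x) := by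
  obtain ⟨e, he⟩ := exists_equiv H hW hV
  letI := (a.appLE ⊤ W le_top).hom.toAlgebra
  letI := (c.appLE ⊤ V le_top).hom.toAlgebra
  let l : Γ(X, W) →ₗ[Γ(Z, ⊤)] Γ(Z, ⊤) :=
    { toFun := f.1, map_add' := map_add _, map_smul' := fun κ z => f.2 κ z }
  let L₀ : Γ(X, W) ⊗[Γ(Z, ⊤)] Γ(T, V) →ₗ[Γ(Z, ⊤)] Γ(T, V) :=
    (TensorProduct.lid Γ(Z, ⊤) Γ(T, V)).toLinearMap.comp (LinearMap.rTensor Γ(T, V) l)
  refine ⟨L₀.toAddMonoidHom.comp e.symm.toAddMonoidHom, fun r x => ?_⟩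
  show L₀ (e.symm (elem q χ W V r x)) = _
  rw [← he, AddEquiv.symm_apply_apply]
  show f.1 x • r = _
  rw [Algebra.smul_def, mul_comm]
  rfl

/-- The base change of a functional. -/
def fnlExt {W : X.Opens} (hW : IsAffineOpen W) {V : T.Opens} (hV : IsAffineOpen V) (f : Fnl a W) :
    Γ(P, q ⁻¹ᵁ W ⊓ χ ⁻¹ᵁ V) →+ Γ(T, V) :=
  (exists_fnlExt H hW hV f).choose

theorem fnlExt_elem {W : X.Opens} (hW : IsAffineOpen W) {V : T.Opens} (hV : IsAffineOpen V) (f : Fnl a W)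
    (r : Γ(T, V)) (x : Γ(X, W)) :
    fnlExt H hW hV f (elem q χ W V r x) = r * c.appLE ⊤ V le_top (f.1 x) :=
  (exists_fnlExt H hW hV f).choose_spec r x

theorem fnlExt_unique {W : X.Opens} (hW : IsAffineOpen W) {V : T.Opens} (hV : IsAffineOpen V) (f : Fnl a W)
    (L : Γ(P, q ⁻¹ᵁ W ⊓ χ ⁻¹ᵁ V) →+ Γ(T, V))
    (hL : ∀ r x, L (elem q χ W V r x) = r * c.appLE ⊤ V le_top (f.1 x)) (z : Γ(P, q ⁻¹ᵁ W ⊓ χ ⁻¹ᵁ V)) :
    L z = fnlExt H hW hV f z := by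
  refine induction_elem H hW hV (motive := fun z => L z = fnlExt H hW hV f z) (by rw [map_zero, map_zero])
    (fun r x => by rw [hL, fnlExt_elem]) (fun u v hu hv => by rw [map_add, map_add, hu, hv]) z

theorem fnlExt_mul {W : X.Opens} (hW : IsAffineOpen W) {V : T.Opens} (hV : IsAffineOpen V) (f : Fnl a W)
    (r : Γ(T, V)) (z : Γ(P, q ⁻¹ᵁ W ⊓ χ ⁻¹ᵁ V)) :
    fnlExt H hW hV f (χ.appLE V _ inf_le_right r * z) = r * fnlExt H hW hV f z := by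
  refine induction_elem H hW hV (motive := fun z => fnlExt H hW hV f (χ.appLE V _ inf_le_right r * z) = r * fnlExt H hW hV f z)
    (by rw [mul_zero, map_zero, mul_zero])
    (fun r' x => ?_) (fun u v hu hv => by rw [mul_add, map_add, map_add, hu, hv, mul_add]) z
  have e : χ.appLE V _ inf_le_right r * elem q χ W V r' x = elem q χ W V (r * r') x := by
    rw [elem, elem, map_mul, mul_assoc]
  rw [e, fnlExt_elem, fnlExt_elem, mul_assoc]

/-- Functionals separate the sections over the constants' field. -/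
theorem fnlExt_sep (hK : IsField Γ(Z, ⊤)) {W : X.Opens} (hW : IsAffineOpen W) {V : T.Opens}
    (hV : IsAffineOpen V) (z : Γ(P, q ⁻¹ᵁ W ⊓ χ ⁻¹ᵁ V)) (h : ∀ f : Fnl a W, fnlExt H hW hV f z = 0) :
    z = 0 := by
  obtain ⟨e, he⟩ := exists_equiv H hW hV
  letI := (a.appLE ⊤ W le_top).hom.toAlgebra
  letI := (c.appLE ⊤ V le_top).hom.toAlgebra
  letI := hK.toField
  obtain ⟨t, rfl⟩ := e.surjective z
  let B := Module.Free.chooseBasis Γ(Z, ⊤) Γ(X, W)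
  classical
  suffices t = 0 by rw [this, map_zero]
  refine (TensorProduct.equivFinsuppOfBasisLeft B).injective (Finsupp.ext fun i => ?_)
  rw [map_zero, Finsupp.zero_apply]
  let f : Fnl a W := ⟨(B.coord i).toAddMonoidHom, fun κ z => by
    show B.coord i (κ • z) = _
    rw [map_smul]; rfl⟩
  refine Eq.trans ?_ (h f)
  let L : Γ(X, W) ⊗[Γ(Z, ⊤)] Γ(T, V) →+ Γ(T, V) :=
    { toFun := fun t => TensorProduct.equivFinsuppOfBasisLeft B t i
      map_zero' := by simp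
      map_add' := fun u v => by simp }
  have key : ∀ z, (L.comp e.symm.toAddMonoidHom) z = fnlExt H hW hV f z := by
    refine fnlExt_unique H hW hV f _ fun r x => ?_
    show L (e.symm (elem q χ W V r x)) = _
    rw [← he, AddEquiv.symm_apply_apply]
    show TensorProduct.equivFinsuppOfBasisLeft B (x ⊗ₜ r) i = _
    rw [TensorProduct.equivFinsuppOfBasisLeft_apply_tmul_apply, Algebra.smul_def, mul_comm]
    rfl
  have := key (e t)
  simpa [L] using this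

/-- Compatibility of the extensions with a map of sections intertwining the generators. -/
theorem fnlExt_comp {T' P' : Scheme.{u}} {c' : T' ⟶ Z} {q' : P' ⟶ X} {χ' : P' ⟶ T'}
    (H' : IsPullback q' χ' a c') {W W' : X.Opens} (hW : IsAffineOpen W) (hW' : IsAffineOpen W')
    {V : T.Opens} (hV : IsAffineOpen V) {V' : T'.Opens} (hV' : IsAffineOpen V')
    (f : Fnl a W) (f' : Fnl a W') (u : Γ(X, W) → Γ(X, W')) (hu : ∀ x, f'.1 (u x) = f.1 x)
    (ψ : Γ(P, q ⁻¹ᵁ W ⊓ χ ⁻¹ᵁ V) →+ Γ(P', q' ⁻¹ᵁ W' ⊓ χ' ⁻¹ᵁ V')) (θ : Γ(T, V) →+* Γ(T', V'))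
    (hθ : ∀ κ, θ (c.appLE ⊤ V le_top κ) = c'.appLE ⊤ V' le_top κ)
    (hψ : ∀ r x, ψ (elem q χ W V r x) = elem q' χ' W' V' (θ r) (u x))
    (z : Γ(P, q ⁻¹ᵁ W ⊓ χ ⁻¹ᵁ V)) :
    fnlExt H' hW' hV' f' (ψ z) = θ (fnlExt H hW hV f z) := by
  refine induction_elem H hW hV (motive := fun z => fnlExt H' hW' hV' f' (ψ z) = θ (fnlExt H hW hV f z))
    (by rw [map_zero, map_zero, map_zero, map_zero])
    (fun r x => by rw [hψ, fnlExt_elem, fnlExt_elem, hu, map_mul, hθ])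
    (fun u v hu hv => by rw [map_add, map_add, map_add, map_add, hu, hv]) z

end Groth.RhoShLib
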