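import Mathlib
import Groth.Prelude.Def_CInt
import Groth.Agent.FlatMor2.FibCrit.RegSeq
import Groth.Agent.FlatMor2.FibCrit.SchemeCrit
import Groth.Agent.Ega4Algebra2.SchemeFibre
import Groth.Agent.Ega4Algebra2.SmoothCodim
import Groth.Agent.KoszShLib.CMLocal
import Groth.Agent.Calg4.RegularAscent
import Groth.Agent.FrobLCI.RegularSpread

/-! Big open subsets of a scheme smooth over an arbitrary base. -/

set_option autoImplicit false
set_option backward.isDefEq.respectTransparency false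
set_option synthInstance.maxHeartbeats 200000

universe u

open CategoryTheory AlgebraicGeometry TopologicalSpace IsLocalRing RingTheory.Sequence

noncomputable section

namespace Groth.RhoShLib

section Algebra

variable {A C : Type u} [CommRing A] [CommRing C] [Algebra A C]

/-- Primes of a fibre local ring are fibre local rings of generalisations. -/
theorem dim_fibre_le_height (q : Ideal C) [q.IsPrime] (Cq : Type u) [CommRing Cq] [Algebra C Cq]
    [IsLocalization.AtPrime Cq q] [Algebra A Cq] [IsScalarTower A C Cq]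
    (s : Ideal A) (P : Ideal (Cq ⧸ s.map (algebraMap A Cq))) [P.IsPrime]
    (p : Ideal C) [p.IsPrime] (hp : p = P.comap ((Ideal.Quotient.mk (s.map (algebraMap A Cq))).comp (algebraMap C Cq)))
    (Cp : Type u) [CommRing Cp] [Algebra C Cp] [IsLocalization.AtPrime Cp p] [Algebra A Cp] [IsScalarTower A C Cp] :
    ringKrullDim (Cp ⧸ s.map (algebraMap A Cp)) = P.height := by
  let I : Ideal C := s.map (algebraMap A C)
  have hq : I.map (algebraMap C Cq) = s.map (algebraMap A Cq) := by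
    rw [Ideal.map_map, ← IsScalarTower.algebraMap_eq]
  have hpI : I.map (algebraMap C Cp) = s.map (algebraMap A Cp) := by
    rw [Ideal.map_map, ← IsScalarTower.algebraMap_eq]
  have hIp : I ≤ p := by
    rw [hp, ← Ideal.map_le_iff_le_comap, ← Ideal.map_map, hq, Ideal.map_quotient_self]
    exact bot_le
  let p' : Ideal (C ⧸ I) := p.map (Ideal.Quotient.mk I)
  haveI : p'.IsPrime := Ideal.map_isPrime_of_surjective Ideal.Quotient.mk_surjective (by rwa [Ideal.mk_ker])
  have hpc : p'.primeCompl = Algebra.algebraMapSubmonoid (C ⧸ I) p.primeCompl := by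
    have hmem : ∀ c, Ideal.Quotient.mk I c ∈ p' ↔ c ∈ p := fun c => by
      rw [← Ideal.mem_comap, Ideal.comap_map_of_surjective _ Ideal.Quotient.mk_surjective,
        ← RingHom.ker_eq_comap_bot, Ideal.mk_ker, sup_eq_left.mpr hIp]
    ext z
    obtain ⟨c, rfl⟩ := Ideal.Quotient.mk_surjective z
    exact ⟨fun hc => ⟨c, fun h' => hc ((hmem c).mpr h'), rfl⟩,
      fun ⟨d, hd, hdc⟩ hc => hd ((hmem d).mp (hdc ▸ hc))⟩
  haveI : IsLocalization.AtPrime (Cp ⧸ I.map (algebraMap C Cp)) p' := by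
    rw [IsLocalization.AtPrime, hpc]; infer_instance
  rw [← ringKrullDim_eq_of_ringEquiv (Ideal.quotEquivOfEq hpI),
    IsLocalization.AtPrime.ringKrullDim_eq_height p' (Cp ⧸ I.map (algebraMap C Cp))]
  let e : (Cq ⧸ I.map (algebraMap C Cq)) ≃+* (Cq ⧸ s.map (algebraMap A Cq)) := Ideal.quotEquivOfEq hq
  have hP : p' = (P.comap (e : (Cq ⧸ I.map (algebraMap C Cq)) →+* (Cq ⧸ s.map (algebraMap A Cq)))).under (C ⧸ I) := by
    refine Ideal.comap_injective_of_surjective (Ideal.Quotient.mk I) Ideal.Quotient.mk_surjective ?_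
    rw [Ideal.comap_map_of_surjective _ Ideal.Quotient.mk_surjective, ← RingHom.ker_eq_comap_bot, Ideal.mk_ker,
      sup_eq_left.mpr hIp, hp, Ideal.under, Ideal.comap_comap, Ideal.comap_comap]
    rfl
  rw [hP, IsLocalization.height_under (Algebra.algebraMapSubmonoid (C ⧸ I) q.primeCompl)]
  exact congrArg _ (RingEquiv.height_comap e P)

end Algebra

variable {X S : Scheme.{u}} (f : X ⟶ S)

/-- a chart around a point -/
theorem fibre_chart {V : S.Opens} (hV : IsAffineOpen V) {W : X.Opens} (hW : IsAffineOpen W) (e : W ≤ f ⁻¹ᵁ V)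
    (y : X) (hy : y ∈ W) :
    letI := (f.appLE V W e).hom.toAlgebra
    letI := X.presheaf.algebra_section_stalk ⟨y, hy⟩
    letI : Algebra Γ(S, V) (X.presheaf.stalk y) :=
      ((algebraMap Γ(X, W) (X.presheaf.stalk y)).comp (algebraMap Γ(S, V) Γ(X, W))).toAlgebra
    Nonempty ((X.presheaf.stalk y ⧸ (((hW.primeIdealOf ⟨y, hy⟩).asIdeal.under Γ(S, V)).map
      (algebraMap Γ(S, V) (X.presheaf.stalk y)))) ≃+* CInt.fiberStalk f y) := by
  letI := (f.appLE V W e).hom.toAlgebra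
  letI := X.presheaf.algebra_section_stalk ⟨y, hy⟩
  letI := S.presheaf.algebra_section_stalk ⟨f y, e hy⟩
  letI : Algebra Γ(S, V) (X.presheaf.stalk y) :=
    ((algebraMap Γ(X, W) (X.presheaf.stalk y)).comp (algebraMap Γ(S, V) Γ(X, W))).toAlgebra
  haveI : IsLocalization.AtPrime (S.presheaf.stalk (f y)) ((hW.primeIdealOf ⟨y, hy⟩).asIdeal.under Γ(S, V)) :=
    FlatMor2.FibCrit.isLocalization_stalk_under f hV hW e y hy
  obtain ⟨eq⟩ := Groth.Ega4b.nonempty_fiberStalk_equiv f y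
  refine ⟨(Ideal.quotEquivOfEq ?_).trans eq⟩
  rw [← IsLocalization.AtPrime.map_eq_maximalIdeal ((hW.primeIdealOf ⟨y, hy⟩).asIdeal.under Γ(S, V))
    (S.presheaf.stalk (f y)), Ideal.map_map]
  congr 1
  ext a
  exact (FlatMor2.FibCrit.stalkMap_germ_appLE f e y hy a).symm

/-- The big-open condition. -/
def IsBig (U : X.Opens) : Prop :=
  ∀ y : X, y ∉ U → (2 : WithBot ℕ∞) ≤ ringKrullDim ↑(CInt.fiberStalk f y)

variable [Smooth f]

/-- Near a point there is a regular pair of functions whose loci of invertibility lie in the big open. -/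
theorem exists_pair (U : X.Opens) (x : X)
    (hU : ∀ y, y ⤳ x → y ∉ U → (2 : WithBot ℕ∞) ≤ ringKrullDim ↑(CInt.fiberStalk f y)) (O : X.Opens) (hxO : x ∈ O) :
    ∃ (N : X.affineOpens) (a b : Γ(X, N.1)), x ∈ N.1 ∧ N.1 ≤ O ∧ IsWeaklyRegular Γ(X, N.1) [a, b] ∧
      X.basicOpen a ≤ U ∧ X.basicOpen b ≤ U ∧
      (x ∉ U → ∀ (hx : x ∈ N.1), X.presheaf.germ N.1 x hx a ∈ maximalIdeal (X.presheaf.stalk x) ∧
        X.presheaf.germ N.1 x hx b ∈ maximalIdeal (X.presheaf.stalk x)) := by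
  by_cases hxU : x ∈ U
  · obtain ⟨N, hN, hxN, hNle⟩ := exists_isAffineOpen_mem_and_subset (x := x) (show x ∈ O ⊓ U from ⟨hxO, hxU⟩)
    refine ⟨⟨N, hN⟩, 1, 1, hxN, fun z hz => (hNle hz).1, ?_, ?_, ?_, fun h => absurd hxU h⟩
    · rw [isWeaklyRegular_cons_iff, isWeaklyRegular_cons_iff]
      exact ⟨IsSMulRegular.one _, IsSMulRegular.one _, IsWeaklyRegular.nil _ _⟩
    · exact (X.basicOpen_le _).trans fun z hz => (hNle hz).2
    · exact (X.basicOpen_le _).trans fun z hz => (hNle hz).2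
  obtain ⟨V, hV, hxV, -⟩ := exists_isAffineOpen_mem_and_subset (x := f x) (Opens.mem_top (f x))
  obtain ⟨W, hW, hxW, hWle⟩ := exists_isAffineOpen_mem_and_subset (x := x) (show x ∈ O ⊓ f ⁻¹ᵁ V from ⟨hxO, hxV⟩)
  have e : W ≤ f ⁻¹ᵁ V := fun z hz => (hWle hz).2
  letI := (f.appLE V W e).hom.toAlgebra
  haveI : Algebra.FinitePresentation Γ(S, V) Γ(X, W) := f.finitePresentation_appLE hV hW e
  letI := X.presheaf.algebra_section_stalk ⟨x, hxW⟩
  letI : Algebra Γ(S, V) (X.presheaf.stalk x) :=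
    ((algebraMap Γ(X, W) (X.presheaf.stalk x)).comp (algebraMap Γ(S, V) Γ(X, W))).toAlgebra
  haveI : IsScalarTower Γ(S, V) Γ(X, W) (X.presheaf.stalk x) := IsScalarTower.of_algebraMap_eq' rfl
  set q := (hW.primeIdealOf ⟨x, hxW⟩).asIdeal with hq
  haveI hloc : IsLocalization.AtPrime (X.presheaf.stalk x) q := hW.isLocalization_stalk ⟨x, hxW⟩
  haveI : Module.Flat Γ(X, W) (X.presheaf.stalk x) := IsLocalization.flat _ q.primeCompl
  haveI : Module.Flat Γ(S, V) Γ(X, W) := by
    have h : (f.appLE V W e).hom.Flat := HasRingHomProperty.appLE @Flat f inferInstance ⟨V, hV⟩ ⟨W, hW⟩ e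
    exact h
  haveI : Module.Flat Γ(S, V) (X.presheaf.stalk x) := Module.Flat.trans Γ(S, V) Γ(X, W) _
  -- the ideal of the complement
  let Z : Set (PrimeSpectrum Γ(X, W)) := hW.fromSpec ⁻¹' ((U : Set X)ᶜ)
  have hZ : IsClosed Z := U.2.isClosed_compl.preimage hW.fromSpec.continuous
  let J : Ideal Γ(X, W) := PrimeSpectrum.vanishingIdeal Z
  have hJ : ∀ P : PrimeSpectrum Γ(X, W), J ≤ P.asIdeal → hW.fromSpec P ∉ U := fun P hP => by
    have h : P ∈ PrimeSpectrum.zeroLocus (J : Set Γ(X, W)) := hP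
    rwa [PrimeSpectrum.zeroLocus_vanishingIdeal_eq_closure, hZ.closure_eq] at h
  have hbasic : ∀ a ∈ J, X.basicOpen a ≤ U := by
    intro a ha z hz
    have hzW : z ∈ W := X.basicOpen_le a hz
    by_contra hzU
    have hmem : hW.primeIdealOf ⟨z, hzW⟩ ∈ Z := by
      show hW.fromSpec (hW.primeIdealOf ⟨z, hzW⟩) ∈ (U : Set X)ᶜ
      rw [hW.fromSpec_primeIdealOf]
      exact hzU
    exact (Groth.QCohMod.mem_basicOpen_iff_notMem_primeIdealOf hW a z hzW).mp hz
      ((PrimeSpectrum.mem_vanishingIdeal Z a).mp ha _ hmem)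
  have hJq : J ≤ q := fun a ha => by
    by_contra hn
    exact hxU (hbasic a ha ((Groth.QCohMod.mem_basicOpen_iff_notMem_primeIdealOf hW a x hxW).mpr hn))
  set s := q.under Γ(S, V) with hs
  set R := X.presheaf.stalk x ⧸ s.map (algebraMap Γ(S, V) (X.presheaf.stalk x))
  obtain ⟨eR⟩ : Nonempty (R ≃+* CInt.fiberStalk f x) := fibre_chart f hV hW e x hxW
  haveI : IsRegularLocalRing R := by
    haveI := Groth.Ega4b.isRegularLocalRing_fiberStalk f x
    exact IsRegularLocalRing.of_ringEquiv eR.symm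
  let ψ : Γ(X, W) →+* R := (Ideal.Quotient.mk _).comp (algebraMap Γ(X, W) (X.presheaf.stalk x))
  have hsq : s.map (algebraMap Γ(S, V) Γ(X, W)) ≤ q := Ideal.map_comap_le
  have hψ : ∀ c, ψ c ∈ maximalIdeal R ↔ c ∈ q := fun c => by
    haveI : IsLocalHom (Ideal.Quotient.mk (s.map (algebraMap Γ(S, V) (X.presheaf.stalk x)))) :=
      IsLocalHom.of_surjective _ Ideal.Quotient.mk_surjective
    rw [← IsLocalization.AtPrime.to_map_mem_maximal_iff (X.presheaf.stalk x) q c]
    exact (map_mem_nonunits_iff (Ideal.Quotient.mk (s.map (algebraMap Γ(S, V) (X.presheaf.stalk x)))) _)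
  have hne : J.map ψ ≠ ⊤ := fun h => (maximalIdeal.isMaximal R).ne_top (top_le_iff.1 (h ▸ Ideal.map_le_iff_le_comap.2
    fun c hc => (hψ c).2 (hJq hc)))
  have hht : (2 : ℕ∞) ≤ (J.map ψ).height := by
    rw [Ideal.height_eq_inf_minimalPrimes]
    refine le_iInf₂ fun P hP => ?_
    haveI := hP.1.1
    let p : Ideal Γ(X, W) := P.comap ψ
    haveI : p.IsPrime := Ideal.comap_isPrime ψ P
    set y : X := hW.fromSpec ⟨p, inferInstance⟩ with hydef
    have hyU : y ∉ U := hJ ⟨p, inferInstance⟩ (Ideal.map_le_iff_le_comap.1 hP.1.2)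
    have hy : y ∈ W := hW.range_fromSpec.le (Set.mem_range_self _)
    have hprime : hW.primeIdealOf ⟨y, hy⟩ = ⟨p, inferInstance⟩ := by
      apply hW.fromSpec.isOpenEmbedding.injective
      rw [hW.fromSpec_primeIdealOf]
    letI := X.presheaf.algebra_section_stalk ⟨y, hy⟩
    letI : Algebra Γ(S, V) (X.presheaf.stalk y) :=
      ((algebraMap Γ(X, W) (X.presheaf.stalk y)).comp (algebraMap Γ(S, V) Γ(X, W))).toAlgebra
    haveI : IsScalarTower Γ(S, V) Γ(X, W) (X.presheaf.stalk y) := IsScalarTower.of_algebraMap_eq' rfl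
    haveI : IsLocalization.AtPrime (X.presheaf.stalk y) p := by
      have := hW.isLocalization_stalk ⟨y, hy⟩
      rwa [hprime] at this
    have hps : p.under Γ(S, V) = s := by
      refine le_antisymm (Ideal.comap_mono fun c hc => (hψ c).1 (le_maximalIdeal hP.1.1.ne_top hc)) fun a ha => ?_
      show ψ (algebraMap Γ(S, V) Γ(X, W) a) ∈ P
      rw [show ψ (algebraMap Γ(S, V) Γ(X, W) a) = 0 from Ideal.Quotient.eq_zero_iff_mem.2 (Ideal.mem_map_of_mem _ ha)]
      exact P.zero_mem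
    obtain ⟨ey⟩ := fibre_chart f hV hW e y hy
    have hyx : y ⤳ x := by
      have h : (⟨p, inferInstance⟩ : PrimeSpectrum Γ(X, W)) ⤳ hW.primeIdealOf ⟨x, hxW⟩ :=
        (PrimeSpectrum.le_iff_specializes _ _).1 fun c hc => (hψ c).1 (le_maximalIdeal hP.1.1.ne_top hc)
      have h' := h.map hW.fromSpec.continuous
      rwa [hW.fromSpec_primeIdealOf] at h'
    have h2 := hU y hyx hyU
    rw [← ringKrullDim_eq_of_ringEquiv ey, hprime] at h2
    change (2 : WithBot ℕ∞) ≤ ringKrullDim (X.presheaf.stalk y ⧸ (p.under Γ(S, V)).map _) at h2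
    rw [hps, dim_fibre_le_height q (X.presheaf.stalk x) s P p rfl (X.presheaf.stalk y)] at h2
    exact WithBot.coe_le_coe.1 h2
  haveI : LocCoh.IsCohenMacaulayRing R := Groth.KoszShLib.isCohenMacaulayRing_of_local R
    (Groth.Calg4.isCohenMacaulayLocalRing_of_isRegularLocalRing R)
  rw [← (Groth.Agent.S14424.result R).1 inferInstance _ hne] at hht
  obtain ⟨rs, hlen, hrs, hmem⟩ := (Groth.LocCohBase.le_idealDepth_iff_exists (J.map ψ) (M := R)
    (by rwa [smul_eq_mul, Ideal.mul_top]) 2).1 hht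
  obtain ⟨r₁, r₂, rfl⟩ := List.length_eq_two.1 hlen
  have lift : ∀ r ∈ J.map ψ, ∃ c ∈ J, Associated (ψ c) r := by
    intro r hr
    rw [← Ideal.map_map] at hr
    obtain ⟨z, hz, rfl⟩ := (Ideal.mem_map_iff_of_surjective _ Ideal.Quotient.mk_surjective).1 hr
    obtain ⟨⟨⟨c, hc⟩, t⟩, hct⟩ := (IsLocalization.mem_map_algebraMap_iff q.primeCompl (X.presheaf.stalk x)).1 hz
    refine ⟨c, hc, ?_⟩
    have h1 : ψ c = Ideal.Quotient.mk _ (z * algebraMap Γ(X, W) (X.presheaf.stalk x) t) :=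
      congrArg (Ideal.Quotient.mk _) hct.symm
    rw [h1]
    exact (associated_mul_unit_left z _ (IsLocalization.map_units (X.presheaf.stalk x) t)).map
      (Ideal.Quotient.mk (s.map (algebraMap Γ(S, V) (X.presheaf.stalk x))))
  obtain ⟨a, ha, haa⟩ := lift r₁ (hmem r₁ (by simp))
  obtain ⟨b, hb, hbb⟩ := lift r₂ (hmem r₂ (by simp))
  have hreg : IsWeaklyRegular R [ψ a, ψ b] :=
    Groth.FrobLCI.RegularSpread.isWeaklyRegular_of_forall₂ (List.Forall₂.cons haa.symm (List.Forall₂.cons hbb.symm List.Forall₂.nil)) hrs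
  have hreg' : IsWeaklyRegular R [a, b] := (isWeaklyRegular_map_algebraMap_iff R R [a, b]).1 hreg
  obtain ⟨g, hg, hall⟩ := FlatMor2.FibCrit.exists_nhd_weaklyRegular [a, b] q
    (by intro h hh; simp only [List.mem_cons, List.not_mem_nil, or_false] at hh; rcases hh with rfl | rfl; exacts [hJq ha, hJq hb])
    (X.presheaf.stalk x) hreg'
  let res' := (X.presheaf.map (homOfLE (X.basicOpen_le g)).op).hom
  letI : Algebra Γ(X, W) Γ(X, X.basicOpen g) := res'.toAlgebra
  haveI : IsLocalization.Away g Γ(X, X.basicOpen g) := hW.isLocalization_basicOpen g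
  letI : Algebra Γ(S, V) Γ(X, X.basicOpen g) := (res'.comp (algebraMap Γ(S, V) Γ(X, W))).toAlgebra
  haveI : IsScalarTower Γ(S, V) Γ(X, W) Γ(X, X.basicOpen g) := IsScalarTower.of_algebraMap_eq' rfl
  have hreg₂ := (hall g dvd_rfl Γ(X, X.basicOpen g)).2 Γ(S, V)
  have hreg₃ : IsWeaklyRegular Γ(X, X.basicOpen g) [a, b] :=
    ((TensorProduct.AlgebraTensorModule.rid Γ(S, V) Γ(X, W) Γ(X, X.basicOpen g)).isWeaklyRegular_congr [a, b]).1 hreg₂
  refine ⟨⟨X.basicOpen g, hW.basicOpen g⟩, res' a, res' b,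
    (Groth.QCohMod.mem_basicOpen_iff_notMem_primeIdealOf hW g x hxW).mpr hg,
    fun z hz => (hWle (X.basicOpen_le g hz)).1,
    (isWeaklyRegular_map_algebraMap_iff Γ(X, X.basicOpen g) Γ(X, X.basicOpen g) [a, b]).2 hreg₃, ?_, ?_, ?_⟩
  · exact (X.basicOpen_res a (homOfLE (X.basicOpen_le g)).op).le.trans (inf_le_right.trans (hbasic a ha))
  · exact (X.basicOpen_res b (homOfLE (X.basicOpen_le g)).op).le.trans (inf_le_right.trans (hbasic b hb))
  · intro _ hx
    constructor
    · rw [show res' a = X.presheaf.map (homOfLE (X.basicOpen_le g)).op a from rfl, TopCat.Presheaf.germ_res_apply]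
      exact (IsLocalization.AtPrime.to_map_mem_maximal_iff (X.presheaf.stalk x) q a).2 (hJq ha)
    · rw [show res' b = X.presheaf.map (homOfLE (X.basicOpen_le g)).op b from rfl, TopCat.Presheaf.germ_res_apply]
      exact (IsLocalization.AtPrime.to_map_mem_maximal_iff (X.presheaf.stalk x) q b).2 (hJq hb)

end Groth.RhoShLib
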