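import Mathlib
import Groth.Agent.RhoShLib.BaseChangeLin

/-! Sections with bounded poles on a product with an affine scheme. -/

set_option autoImplicit false

universe u

open CategoryTheory CategoryTheory.Limits AlgebraicGeometry TopologicalSpace

noncomputable section

namespace Groth.RhoShLib

variable {X Z : Scheme.{u}} (a : X ⟶ Z)

/-- The zero functional. -/
def Fnl.zero (W : X.Opens) : Fnl a W := ⟨0, fun _ _ => by simp⟩

theorem res_base {W W' : X.Opens} (h : W' ≤ W) (κ : Γ(Z, ⊤)) :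
    X.presheaf.map (homOfLE h).op (a.appLE ⊤ W le_top κ) = a.appLE ⊤ W' le_top κ := by
  rw [← CommRingCat.comp_apply, Scheme.Hom.appLE_map]

theorem exists_bound (hK : IsField Γ(Z, ⊤)) {W : X.Opens} {N : ℕ}
    (U W' : Fin N → X.Opens) (hW : ∀ j, W' j ≤ W) (hU : ∀ j, W' j ≤ U j) (r : ∀ j, Γ(X, W' j))
    (hfin : ∀ _ : IsField Γ(Z, ⊤), ∃ G : Finset Γ(X, W), ∀ x : Γ(X, W),
      (∀ j, ∃ w, X.presheaf.map (homOfLE (hW j)).op x * r j = X.presheaf.map (homOfLE (hU j)).op w) →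
      ∃ κ : Γ(X, W) → Γ(Z, ⊤), x = ∑ g ∈ G, a.appLE ⊤ W le_top (κ g) * g) :
    ∃ (d : ℕ) (e : Fin d → Γ(X, W)) (coord : Fin d → Fnl a W),
      (∀ i i', (coord i).1 (e i') = if i' = i then 1 else 0) ∧
      ∀ f : Fnl a W, ∃ μ : ∀ j, Fnl a (W' j), (∀ j w, (μ j).1 (X.presheaf.map (homOfLE (hU j)).op w) = 0) ∧
        ∀ x, f.1 x = (∑ i, f.1 (e i) * (coord i).1 x) + ∑ j, (μ j).1 (X.presheaf.map (homOfLE (hW j)).op x * r j) := by
  classical
  obtain ⟨G, hG⟩ := hfin hK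
  letI := hK.toField
  letI := (a.appLE ⊤ W le_top).hom.toAlgebra
  letI := fun j => (a.appLE ⊤ (W' j) le_top).hom.toAlgebra
  letI := fun j => (a.appLE ⊤ (U j) le_top).hom.toAlgebra
  let ru : ∀ j, Γ(X, U j) →ₗ[Γ(Z, ⊤)] Γ(X, W' j) := fun j =>
    { toFun := fun w => X.presheaf.map (homOfLE (hU j)).op w
      map_add' := map_add _
      map_smul' := fun κ w => by
        rw [RingHom.id_apply, Algebra.smul_def, Algebra.smul_def, map_mul]
        exact congrArg (· * _) (res_base a (hU j) κ) }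
  let rw' : ∀ j, Γ(X, W) →ₗ[Γ(Z, ⊤)] Γ(X, W' j) := fun j =>
    { toFun := fun x => X.presheaf.map (homOfLE (hW j)).op x * r j
      map_add' := fun x y => by rw [map_add, add_mul]
      map_smul' := fun κ x => by
        rw [RingHom.id_apply, Algebra.smul_def, Algebra.smul_def, map_mul, mul_assoc]
        exact congrArg (· * _) (res_base a (hW j) κ) }
  let Φ : Γ(X, W) →ₗ[Γ(Z, ⊤)] ∀ j, Γ(X, W' j) ⧸ LinearMap.range (ru j) :=
    LinearMap.pi fun j => (LinearMap.range (ru j)).mkQ.comp (rw' j)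
  let V0 := LinearMap.ker Φ
  have hV0 : V0 ≤ Submodule.span Γ(Z, ⊤) (G : Set Γ(X, W)) := by
    intro x hx
    obtain ⟨κ, rfl⟩ := hG x fun j => by
      have := congrFun (LinearMap.mem_ker.1 hx) j
      obtain ⟨w, hw⟩ := (Submodule.Quotient.mk_eq_zero _).1 this
      exact ⟨w, hw.symm⟩
    refine Submodule.sum_mem _ fun g hg => ?_
    exact Submodule.smul_mem _ (κ g) (Submodule.subset_span hg)
  haveI : Module.Finite Γ(Z, ⊤) V0 :=
    haveI : FiniteDimensional Γ(Z, ⊤) (Submodule.span Γ(Z, ⊤) (G : Set Γ(X, W))) :=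
      FiniteDimensional.span_of_finite _ G.finite_toSet
    Submodule.finiteDimensional_of_le hV0
  let B := Module.finBasis Γ(Z, ⊤) V0
  obtain ⟨π0, hπ0⟩ := LinearMap.exists_leftInverse_of_injective V0.subtype V0.ker_subtype
  let R0 : Γ(X, W) →ₗ[Γ(Z, ⊤)] Γ(X, W) := LinearMap.id - V0.subtype.comp π0
  have hR0 : V0 ≤ LinearMap.ker R0 := fun x hx => by
    have := LinearMap.congr_fun hπ0 ⟨x, hx⟩
    simp only [LinearMap.comp_apply, Submodule.subtype_apply, LinearMap.id_apply] at this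
    simp [R0, this]
  obtain ⟨L, hL⟩ := LinearMap.exists_leftInverse_of_injective (V0.liftQ Φ le_rfl)
    (Submodule.ker_liftQ_eq_bot _ _ _ le_rfl)
  refine ⟨Module.finrank Γ(Z, ⊤) V0, fun i => (B i : Γ(X, W)),
    fun i => ⟨((B.coord i).comp π0).toAddMonoidHom, fun κ z => ((B.coord i).comp π0).map_smul κ z⟩,
    fun i i' => ?_, fun f => ?_⟩
  · show B.coord i (π0 (B i')) = _
    rw [show π0 (B i') = B i' from LinearMap.congr_fun hπ0 (B i'), Module.Basis.coord_apply,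
      Module.Basis.repr_self, Finsupp.single_apply]
  let fl : Γ(X, W) →ₗ[Γ(Z, ⊤)] Γ(Z, ⊤) :=
    { toFun := f.1, map_add' := map_add _, map_smul' := fun κ z => f.2 κ z }
  let μ : (∀ j, Γ(X, W' j) ⧸ LinearMap.range (ru j)) →ₗ[Γ(Z, ⊤)] Γ(Z, ⊤) :=
    fl.comp ((V0.liftQ R0 hR0).comp L)
  let μj : ∀ j, Γ(X, W' j) →ₗ[Γ(Z, ⊤)] Γ(Z, ⊤) := fun j =>
    (μ.comp (LinearMap.single _ (fun j => Γ(X, W' j) ⧸ LinearMap.range (ru j)) j)).comp (LinearMap.range (ru j)).mkQ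
  refine ⟨fun j => ⟨(μj j).toAddMonoidHom, fun κ z => (μj j).map_smul κ z⟩, fun j w => ?_, fun x => ?_⟩
  · show μj j (ru j w) = 0
    simp only [μj, LinearMap.comp_apply, Submodule.mkQ_apply,
      (Submodule.Quotient.mk_eq_zero _).2 (LinearMap.mem_range_self (ru j) w), map_zero]
  · have h1 : μ (Φ x) = fl (R0 x) := by
      have := LinearMap.congr_fun hL (V0.mkQ x)
      simp only [LinearMap.comp_apply, Submodule.liftQ_apply, LinearMap.id_apply, Submodule.mkQ_apply] at this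
      simp only [μ, LinearMap.comp_apply, this, Submodule.liftQ_apply]
    have h2 : μ (Φ x) = ∑ j, μj j (rw' j x) := by
      conv_lhs => rw [← Finset.univ_sum_single (Φ x)]
      rw [map_sum]
      rfl
    have h3 : fl (π0 x : Γ(X, W)) = ∑ i, f.1 (B i : Γ(X, W)) * B.coord i (π0 x) := by
      conv_lhs => rw [← B.sum_repr (π0 x)]
      rw [Submodule.coe_sum, map_sum]
      exact Finset.sum_congr rfl fun i _ => by rw [Submodule.coe_smul, map_smul, smul_eq_mul, mul_comm]; rfl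
    show fl x = _
    calc fl x = fl (π0 x : Γ(X, W)) + fl (R0 x) := by rw [← map_add]; simp [R0]
      _ = _ := by rw [h3, ← h1, h2]; rfl

theorem eq_sum_of_bound {T P : Scheme.{u}} {c : T ⟶ Z} {q : P ⟶ X} {χ : P ⟶ T} [IsAffine Z]
    (H : IsPullback q χ a c) (hK : IsField Γ(Z, ⊤)) {W : X.Opens} (hWa : IsAffineOpen W)
    {V : T.Opens} (hV : IsAffineOpen V) {N : ℕ} (U W' : Fin N → X.Opens) (hUa : ∀ j, IsAffineOpen (U j))
    (hW'a : ∀ j, IsAffineOpen (W' j)) (hW : ∀ j, W' j ≤ W) (hU : ∀ j, W' j ≤ U j) (r : ∀ j, Γ(X, W' j))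
    {d : ℕ} (e : Fin d → Γ(X, W)) (coord : Fin d → Fnl a W)
    (hf : ∀ f : Fnl a W, ∃ μ : ∀ j, Fnl a (W' j), (∀ j w, (μ j).1 (X.presheaf.map (homOfLE (hU j)).op w) = 0) ∧
        ∀ x, f.1 x = (∑ i, f.1 (e i) * (coord i).1 x) + ∑ j, (μ j).1 (X.presheaf.map (homOfLE (hW j)).op x * r j))
    (z : Γ(P, q ⁻¹ᵁ W ⊓ χ ⁻¹ᵁ V))
    (hz : ∀ j, ∃ w, P.presheaf.map (homOfLE (inf_le_inf_right _ (q.preimage_mono (hW j)) :
        q ⁻¹ᵁ W' j ⊓ χ ⁻¹ᵁ V ≤ q ⁻¹ᵁ W ⊓ χ ⁻¹ᵁ V)).op z * q.appLE (W' j) _ inf_le_left (r j) =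
      P.presheaf.map (homOfLE (inf_le_inf_right _ (q.preimage_mono (hU j)) :
        q ⁻¹ᵁ W' j ⊓ χ ⁻¹ᵁ V ≤ q ⁻¹ᵁ U j ⊓ χ ⁻¹ᵁ V)).op w) :
    z = ∑ i, elem q χ W V (fnlExt H hWa hV (coord i) z) (e i) := by
  rw [← sub_eq_zero]
  refine fnlExt_sep H hK hWa hV _ fun f => ?_
  obtain ⟨μ, hμ0, hμ⟩ := hf f
  rw [map_sub, map_sum, sub_eq_zero]
  simp only [fnlExt_elem]
  let u : ∀ j, Γ(P, q ⁻¹ᵁ W ⊓ χ ⁻¹ᵁ V) →+ Γ(P, q ⁻¹ᵁ W' j ⊓ χ ⁻¹ᵁ V) := fun j =>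
    { toFun := fun z => P.presheaf.map (homOfLE (inf_le_inf_right _ (q.preimage_mono (hW j)) :
        q ⁻¹ᵁ W' j ⊓ χ ⁻¹ᵁ V ≤ q ⁻¹ᵁ W ⊓ χ ⁻¹ᵁ V)).op z * q.appLE (W' j) _ inf_le_left (r j)
      map_zero' := by rw [map_zero, zero_mul]
      map_add' := fun x y => by rw [map_add, add_mul] }
  have hres : ∀ {A B : X.Opens} (h : B ≤ A) (rr : Γ(T, V)) (x : Γ(X, A)),
      P.presheaf.map (homOfLE (inf_le_inf_right _ (q.preimage_mono h) : q ⁻¹ᵁ B ⊓ χ ⁻¹ᵁ V ≤ q ⁻¹ᵁ A ⊓ χ ⁻¹ᵁ V)).op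
        (elem q χ A V rr x) = elem q χ B V rr (X.presheaf.map (homOfLE h).op x) := by
    intro A B h rr x
    rw [elem, elem, map_mul]
    simp only [← CommRingCat.comp_apply, Scheme.Hom.appLE_map, Scheme.Hom.map_appLE]
  have hu : ∀ j rr x, u j (elem q χ W V rr x) = elem q χ (W' j) V rr (X.presheaf.map (homOfLE (hW j)).op x * r j) := by
    intro j rr x
    show P.presheaf.map (homOfLE (inf_le_inf_right _ (q.preimage_mono (hW j)) :
        q ⁻¹ᵁ W' j ⊓ χ ⁻¹ᵁ V ≤ q ⁻¹ᵁ W ⊓ χ ⁻¹ᵁ V)).op (elem q χ W V rr x) * q.appLE (W' j) _ inf_le_left (r j) = _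
    rw [hres (hW j) rr x, elem, elem, map_mul, mul_assoc]
  have hzero : ∀ (j) w, fnlExt H (hW'a j) hV (μ j) (P.presheaf.map (homOfLE (inf_le_inf_right _ (q.preimage_mono (hU j)) :
        q ⁻¹ᵁ W' j ⊓ χ ⁻¹ᵁ V ≤ q ⁻¹ᵁ U j ⊓ χ ⁻¹ᵁ V)).op w) = 0 := by
    intro j w
    refine (fnlExt_comp H H (hUa j) (hW'a j) hV hV (Fnl.zero a (U j)) (μ j)
      (fun x => X.presheaf.map (homOfLE (hU j)).op x) (fun x => hμ0 j x)
      (P.presheaf.map (homOfLE (inf_le_inf_right _ (q.preimage_mono (hU j)) :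
        q ⁻¹ᵁ W' j ⊓ χ ⁻¹ᵁ V ≤ q ⁻¹ᵁ U j ⊓ χ ⁻¹ᵁ V)).op).hom.toAddMonoidHom (RingHom.id _) (fun κ => rfl)
      (fun rr x => hres (hU j) rr x) w).trans ?_
    refine (fnlExt_unique H (hUa j) hV (Fnl.zero a (U j)) (0 : Γ(P, q ⁻¹ᵁ U j ⊓ χ ⁻¹ᵁ V) →+ Γ(T, V)) (fun rr x => ?_) w).symm
    show 0 = rr * c.appLE ⊤ V le_top 0
    rw [map_zero, mul_zero]
  let L : Γ(P, q ⁻¹ᵁ W ⊓ χ ⁻¹ᵁ V) →+ Γ(T, V) :=
    (∑ i, (AddMonoidHom.mulRight (c.appLE ⊤ V le_top (f.1 (e i)))).comp (fnlExt H hWa hV (coord i))) +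
      ∑ j, (fnlExt H (hW'a j) hV (μ j)).comp (u j)
  have hL := fnlExt_unique H hWa hV f L (fun rr x => by
    simp only [L, AddMonoidHom.add_apply, AddMonoidHom.finsetSum_apply, AddMonoidHom.comp_apply,
      AddMonoidHom.coe_mulRight, hu, fnlExt_elem, hμ x, map_add, map_sum, map_mul, mul_add, Finset.mul_sum]
    congr 1
    exact Finset.sum_congr rfl fun i _ => by ring) z
  rw [← hL]
  simp only [L, AddMonoidHom.add_apply, AddMonoidHom.finsetSum_apply, AddMonoidHom.comp_apply,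
    AddMonoidHom.coe_mulRight]
  rw [Finset.sum_eq_zero (s := Finset.univ) (f := fun j => fnlExt H (hW'a j) hV (μ j) (u j z)) fun j _ => ?_,
    add_zero]
  obtain ⟨w, hw⟩ := hz j
  exact (congrArg _ hw).trans (hzero j w)

end Groth.RhoShLib
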