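import Mathlib
import Groth.Agent.PropsBasic.AmpleSec
import Groth.Agent.CurveBridge.Cohomology
import Groth.Agent.CohC3.ProperHelpers
import Groth.Agent.Misc13.KC1

/-! Charts of a projective variety adapted to a section of an ample power. -/

set_option autoImplicit false

universe u

open CategoryTheory CategoryTheory.Limits AlgebraicGeometry TopologicalSpace

noncomputable section

namespace Groth.RhoShLib

open Groth.PicAux

variable (k : Type u) [Field k] {X : Scheme.{u}} (a : X ⟶ Spec (CommRingCat.of k)) [IsProper a]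

theorem exists_finite_sections {M : X.Modules} (hM : PicF.IsInvertible M) :
    ∃ (D : ℕ) (σ : Fin D → Γ(M, ⊤)), ∀ z : Γ(M, ⊤), ∃ κ : Fin D → Γ(Spec (CommRingCat.of k), ⊤),
      z = ∑ i, (a.appTop (κ i) : Γ(X, ⊤)) • σ i := by
  letI : X.Over (Spec (CommRingCat.of k)) := ⟨a⟩
  haveI : IsProper (X ↘ Spec (CommRingCat.of k)) := ‹IsProper a›
  haveI := Groth.CohC3.isNoetherian_of_finiteType (A := k) (X := X)
  haveI := Groth.CohC3.finite_HH_of_proper (A := k) (X := X) (Groth.Misc13.KC1.isCoh_of_invertible hM) 0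
  obtain ⟨D, v, hv⟩ := Submodule.fg_iff_exists_fin_generating_family.1
    (Module.Finite.fg_top : (⊤ : Submodule k (Coh.HH X M 0)).FG)
  refine ⟨D, fun i => Groth.CurveBridge.sec0 (k := k) M (v i), fun z => ?_⟩
  obtain ⟨c, hc⟩ := (Submodule.mem_span_range_iff_exists_fun k).1
    (hv.ge (Submodule.mem_top : (Groth.CurveBridge.sec0 (k := k) M).symm z ∈ ⊤))
  refine ⟨fun i => (Scheme.ΓSpecIso (CommRingCat.of k)).inv (c i), ?_⟩
  have := congrArg (Groth.CurveBridge.sec0 (k := k) M) hc
  rw [AddEquiv.apply_symm_apply, map_sum] at this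
  rw [← this]
  exact Finset.sum_congr rfl fun i _ => Groth.CurveBridge.sec0_smul M (c i) (v i)

theorem res_injective_integral [IsIntegral X] {O O' : X.Opens} (h : O' ≤ O) (hO' : (O : Set X).Nonempty → (O' : Set X).Nonempty) :
    Function.Injective (X.presheaf.map (homOfLE h).op) := by
  rcases (O : Set X).eq_empty_or_nonempty with he | hne
  · intro x y _
    refine X.sheaf.eq_of_locally_eq' (fun _ : PEmpty.{u+1} => ⊥) O (fun i => i.elim) ?_ _ _ (fun i => i.elim)
    intro z hz
    exact absurd (he ▸ hz : z ∈ (∅ : Set X)) (by simp)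
  · obtain ⟨z, hz⟩ := hO' hne
    intro x y e
    have e' := congrArg (X.presheaf.germ O' z hz) e
    rw [TopCat.Presheaf.germ_res_apply, TopCat.Presheaf.germ_res_apply] at e'
    exact germ_injective_of_isIntegral X z (h hz) e'

/-- The charts attached to a section `t` of an invertible module. -/
theorem exists_chart_data [IsIntegral X] {M : X.Modules} (hM : PicF.IsInvertible M) (t : Γ(M, ⊤))
    {W : X.Opens} (hW : W = Groth.PropsBasic.Ample.gloc t) (hWne : (W : Set X).Nonempty) :
    ∃ (N : ℕ) (Uc : Fin N → X.Opens) (c : ∀ j, Γ(X, Uc j)),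
      (∀ j, IsAffineOpen (Uc j)) ∧ (∀ j, IsAffineOpen (X.basicOpen (c j))) ∧
      (∀ j, X.basicOpen (c j) ≤ W) ∧
      ∀ m : ℕ, ∃ G : Finset Γ(X, W), ∀ x : Γ(X, W),
        (∀ j, ∀ (h₁ : X.basicOpen (c j) ≤ W) (h₂ : X.basicOpen (c j) ≤ Uc j), ∃ w,
          X.presheaf.map (homOfLE h₁).op x * X.presheaf.map (homOfLE h₂).op (c j) ^ m =
            X.presheaf.map (homOfLE h₂).op w) →
        ∃ κ : Γ(X, W) → Γ(Spec (CommRingCat.of k), ⊤), x = ∑ g ∈ G, a.appLE ⊤ W le_top (κ g) * g := by
  classical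
  haveI : CompactSpace X := QuasiCompact.compactSpace_of_compactSpace a
  obtain ⟨U, e, hU, hxU, he, hcov⟩ := Groth.PropsBasic.Ample.exists_gen_cover hM
  obtain ⟨F, hF⟩ := isCompact_univ.elim_finite_subcover (fun x : X => (U x : Set X)) (fun x => (U x).2)
    (fun x _ => Set.mem_iUnion.2 ⟨x, hxU x⟩)
  let idx : Fin F.card → X := fun j => (F.equivFin.symm j).1
  have hidx : ∀ z : X, ∃ j, z ∈ U (idx j) := fun z => by
    obtain ⟨x, hx, hz⟩ := Set.mem_iUnion₂.1 (hF (Set.mem_univ z))
    exact ⟨F.equivFin ⟨x, hx⟩, by simpa [idx] using hz⟩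
  choose c hc using fun x => (he x).exists_coeff le_rfl (Groth.PicAux.res M le_top t)
  simp only [Groth.PicAux.res_self] at hc
  have hbc : ∀ x, Groth.PropsBasic.Ample.gloc t ⊓ U x = X.basicOpen (c x) := fun x =>
    Groth.PropsBasic.Ample.gloc_inf_eq_basicOpen (he x) (hc x)
  have hle : ∀ x, X.basicOpen (c x) ≤ W := fun x => hW ▸ (hbc x) ▸ inf_le_left
  refine ⟨F.card, fun j => U (idx j), fun j => c (idx j), fun j => hU _, fun j => (hU _).basicOpen _,
    fun j => hle _, fun m => ?_⟩
  have hgW : Gen (CohB1.tensorPow M m) W (powSec (Groth.PicAux.res M le_top t) m) :=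
    (Groth.PropsBasic.Ample.gen_gloc t (le_of_eq hW)).pow m
  obtain ⟨D, σ, hσ⟩ := exists_finite_sections k a (Groth.PicAux.isInvertible_tensorPow hM m)
  choose ρ hρ using fun i => hgW.exists_coeff le_rfl (Groth.PicAux.res _ le_top (σ i))
  simp only [Groth.PicAux.res_self] at hρ
  refine ⟨Finset.univ.image ρ, fun x hx => ?_⟩
  choose w hw using fun j => hx j (hle _) (X.basicOpen_le _)
  obtain ⟨z, hz, -⟩ := res_glue (M := CohB1.tensorPow M m) (fun j => U (idx j)) (U := ⊤) (fun _ => le_top)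
    (fun z _ => Opens.mem_iSup.2 (hidx z)) (fun j => w j • powSec (e (idx j)) m) (fun i j => by
      set Oij := U (idx i) ⊓ U (idx j)
      obtain ⟨d₁, hd₁⟩ := ((he (idx i)).pow m).exists_coeff (inf_le_left : Oij ≤ _)
        (Groth.PicAux.res _ (inf_le_left : Oij ≤ _) (w i • powSec (e (idx i)) m))
      obtain ⟨d₂, hd₂⟩ := ((he (idx i)).pow m).exists_coeff (inf_le_left : Oij ≤ _)
        (Groth.PicAux.res _ (inf_le_right : Oij ≤ _) (w j • powSec (e (idx j)) m))
      rw [hd₁, hd₂]
      congr 1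
      have hne : (Oij : Set X).Nonempty → ((Oij ⊓ W : X.Opens) : Set X).Nonempty := fun h => by
        rw [Opens.coe_inf]
        exact nonempty_preirreducible_inter Oij.2 W.2 h hWne
      refine res_injective_integral (O := Oij) inf_le_left hne ?_
      refine ((he (idx i)).pow m).smul_inj ((inf_le_left : Oij ⊓ W ≤ Oij).trans inf_le_left) ?_
      have key : ∀ (l : Fin F.card) (hl : Oij ⊓ W ≤ U (idx l)),
          Groth.PicAux.res _ hl (w l • powSec (e (idx l)) m) =
            X.presheaf.map (homOfLE (inf_le_right : Oij ⊓ W ≤ W)).op x •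
              Groth.PicAux.res _ (inf_le_right : Oij ⊓ W ≤ W) (powSec (Groth.PicAux.res M le_top t) m) := by
        intro l hl
        have hb : Oij ⊓ W ≤ X.basicOpen (c (idx l)) := hbc (idx l) ▸ le_inf (hW ▸ inf_le_right) hl
        have h1 := congrArg (fun r => Groth.PicAux.resX X hb r • Groth.PicAux.res _ hl (powSec (e (idx l)) m)) (hw l)
        have h2 : Groth.PicAux.res _ (inf_le_right : Oij ⊓ W ≤ W) (powSec (Groth.PicAux.res M le_top t) m) =
            Groth.PicAux.resX X hl (c (idx l) ^ m) • Groth.PicAux.res _ hl (powSec (e (idx l)) m) := by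
          rw [res_powSec, Groth.PicAux.res_res, ← Groth.PicAux.res_res (M := M) (le_top : U (idx l) ≤ ⊤) hl t, hc,
            Groth.PicAux.res_smul, powSec_smul, res_powSec, map_pow]
        rw [h2, ← mul_smul, Groth.PicAux.res_smul]
        simp only [map_mul, map_pow, Groth.PicAux.resX_resX] at h1 ⊢
        refine Eq.trans ?_ (h1.symm.trans ?_)
        · congr 1
          exact (res_res'' (X.basicOpen_le _) hb (w l)).symm
        · congr 1
          exact congrArg₂ (· * ·) (res_res'' (hle _) hb x)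
            (congrArg (· ^ m) (res_res'' (X.basicOpen_le _) hb (c (idx l))))
      show Groth.PicAux.resX X _ d₁ • _ = Groth.PicAux.resX X _ d₂ • _
      rw [← Groth.PicAux.res_res (M := CohB1.tensorPow M m) (inf_le_left : Oij ≤ U (idx i)) (inf_le_left : Oij ⊓ W ≤ Oij),
        ← Groth.PicAux.res_smul, ← Groth.PicAux.res_smul, ← hd₁, ← hd₂, Groth.PicAux.res_res, Groth.PicAux.res_res,
        key i, key j])
  obtain ⟨κ, hκ⟩ := hσ z
  have hzW : Groth.PicAux.res (CohB1.tensorPow M m) (le_top : W ≤ ⊤) z = x • powSec (Groth.PicAux.res M le_top t) m := by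
    refine res_ext (fun j => W ⊓ U (idx j)) (fun _ => inf_le_left)
      (fun y hy => Opens.mem_iSup.2 ⟨_, hy, (hidx y).choose_spec⟩) fun j => ?_
    have hb : W ⊓ U (idx j) ≤ X.basicOpen (c (idx j)) := hbc (idx j) ▸ inf_le_inf_right _ hW.le
    rw [Groth.PicAux.res_res, ← Groth.PicAux.res_res (M := CohB1.tensorPow M m) (le_top : U (idx j) ≤ ⊤)
      (inf_le_right : W ⊓ U (idx j) ≤ U (idx j)), hz, Groth.PicAux.res_smul, Groth.PicAux.res_smul]
    have h2 : Groth.PicAux.res _ (inf_le_left : W ⊓ U (idx j) ≤ W) (powSec (Groth.PicAux.res M le_top t) m) =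
        Groth.PicAux.resX X (inf_le_right : W ⊓ U (idx j) ≤ _) (c (idx j) ^ m) •
          Groth.PicAux.res _ inf_le_right (powSec (e (idx j)) m) := by
      rw [res_powSec, Groth.PicAux.res_res,
        ← Groth.PicAux.res_res (M := M) (le_top : U (idx j) ≤ ⊤) (inf_le_right : W ⊓ U (idx j) ≤ _) t, hc,
        Groth.PicAux.res_smul, powSec_smul, res_powSec, map_pow]
    rw [h2, ← mul_smul]
    congr 1
    have h1 := congrArg (Groth.PicAux.resX X hb) (hw j)
    simp only [map_mul, map_pow] at h1 ⊢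
    refine ((res_res'' (X.basicOpen_le _) hb (w j)).symm.trans h1.symm).trans ?_
    exact congrArg₂ (· * ·) (res_res'' (hle _) hb x) (congrArg (· ^ m) (res_res'' (X.basicOpen_le _) hb (c (idx j))))
  have hx' : x = ∑ i, a.appLE ⊤ W le_top (κ i) * ρ i := by
    refine hgW.smul_inj le_rfl ?_
    rw [Groth.PicAux.res_self, ← hzW, hκ, Finset.sum_smul]
    refine (map_sum ((CohB1.tensorPow M m).presheaf.map (homOfLE (le_top : W ≤ ⊤)).op).hom _ _).trans
      (Finset.sum_congr rfl fun i _ => ?_)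
    show Groth.PicAux.res _ _ (_ • σ i) = _
    rw [Groth.PicAux.res_smul, hρ, ← mul_smul]
    congr 2
  refine ⟨fun g => ∑ i ∈ Finset.univ.filter (fun i => ρ i = g), κ i, ?_⟩
  rw [hx', ← Finset.sum_fiberwise_of_maps_to (g := ρ) (fun i _ => Finset.mem_image_of_mem ρ (Finset.mem_univ i))]
  refine Finset.sum_congr rfl fun g _ => ?_
  rw [map_sum, Finset.sum_mul]
  exact Finset.sum_congr rfl fun i hi => by rw [(Finset.mem_filter.1 hi).2]
where
  res_res'' {O₁ O₂ O₃ : X.Opens} (h : O₂ ≤ O₁) (h' : O₃ ≤ O₂) (z : Γ(X, O₁)) :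
      Groth.PicAux.resX X h' (X.presheaf.map (homOfLE h).op z) = Groth.PicAux.resX X (h'.trans h) z := by
    show (X.presheaf.map (homOfLE h').op) (X.presheaf.map (homOfLE h).op z) = _
    rw [← CommRingCat.comp_apply, ← Functor.map_comp]
    rfl

end Groth.RhoShLib
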