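import Mathlib
import Groth.Agent.RhoShLib.CartierCompl

/-! The predicate "extends a given partial section". -/

set_option autoImplicit false

universe u

open CategoryTheory CategoryTheory.Limits AlgebraicGeometry TopologicalSpace

noncomputable section

namespace Groth.RhoShLib

variable {P Y : Scheme.{u}} (p : Y ⟶ P) {Q : P.Opens} (s : (Q : Scheme.{u}) ⟶ Y)

/-- `f` is a lift of `φ` through `p` extending `s`. -/
def IsExtension {P' : Scheme.{u}} (φ : P' ⟶ P) (f : P' ⟶ Y) : Prop :=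
  f ≫ p = φ ∧ ∀ (W : Scheme.{u}) (w : W ⟶ P') (v : W ⟶ (Q : Scheme.{u})), w ≫ φ = v ≫ Q.ι → w ≫ f = v ≫ s

theorem isExtension_iff {P' : Scheme.{u}} (φ : P' ⟶ P) (f : P' ⟶ Y) :
    IsExtension p s φ f ↔ f ≫ p = φ ∧ (φ ⁻¹ᵁ Q).ι ≫ f = (φ ∣_ Q) ≫ s := by
  refine ⟨fun h => ⟨h.1, h.2 _ _ _ (morphismRestrict_ι φ Q).symm⟩, fun h => ⟨h.1, fun W w v e => ?_⟩⟩
  have hw : Set.range w.base ⊆ Set.range (φ ⁻¹ᵁ Q).ι.base := by
    rintro _ ⟨z, rfl⟩
    rw [Scheme.Opens.range_ι]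
    show φ.base (w.base z) ∈ Q
    rw [← Scheme.Hom.comp_apply, e]
    exact (v.base z).2
  have hl := IsOpenImmersion.lift_fac (φ ⁻¹ᵁ Q).ι w hw
  have hv : IsOpenImmersion.lift (φ ⁻¹ᵁ Q).ι w hw ≫ (φ ∣_ Q) = v := by
    rw [← cancel_mono Q.ι, Category.assoc, morphismRestrict_ι, reassoc_of% hl, e]
  rw [← hl, Category.assoc, h.2, ← Category.assoc, hv]

theorem IsExtension.comp {P' P'' : Scheme.{u}} {φ : P' ⟶ P} {f : P' ⟶ Y} (h : IsExtension p s φ f)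
    (r : P'' ⟶ P') : IsExtension p s (r ≫ φ) (r ≫ f) :=
  ⟨by rw [Category.assoc, h.1], fun W w v e => by
    rw [← Category.assoc]; exact h.2 W (w ≫ r) v (by rw [Category.assoc]; exact e)⟩

variable {P' : Scheme.{u}} (φ : P' ⟶ P) {J : P'.IdealSheafData} (hJ : BlowUp.IsEffCartierIdeal J)
  (hQ : φ ⁻¹ᵁ Q = J.support.compl) [IsSeparated p]

include hJ hQ in
theorem IsExtension.unique {O : Scheme.{u}} (j : O ⟶ P') [IsOpenImmersion j] {f f' : O ⟶ Y}
    (h : IsExtension p s (j ≫ φ) f) (h' : IsExtension p s (j ≫ φ) f') : f = f' := by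
  refine ext_compl hJ j p (h.1.trans h'.1.symm) ?_
  rw [← hQ]
  have e : (j ⁻¹ᵁ φ ⁻¹ᵁ Q).ι ≫ j ≫ φ = ((j ∣_ (φ ⁻¹ᵁ Q)) ≫ (φ ∣_ Q)) ≫ Q.ι := by
    rw [Category.assoc, morphismRestrict_ι, morphismRestrict_ι_assoc]
  exact (h.2 _ _ _ e).trans (h'.2 _ _ _ e).symm

include hJ hQ in
theorem exists_extension_of_cover {ι : Type u} (O : ι → P'.Opens) (hO : ∀ x : P', ∃ i, x ∈ O i)
    (hf : ∀ i, ∃ f : (O i : Scheme.{u}) ⟶ Y, IsExtension p s ((O i).ι ≫ φ) f) :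
    ∃ f : P' ⟶ Y, IsExtension p s φ f := by
  choose f hf using hf
  have hcov : TopologicalSpace.IsOpenCover O := top_unique fun z _ => Opens.mem_iSup.2 (hO z)
  let 𝒰 := P'.openCoverOfIsOpenCover O hcov
  have hg : ∀ i j : ι, pullback.fst (O i).ι (O j).ι ≫ f i = pullback.snd (O i).ι (O j).ι ≫ f j := by
    intro i j
    have h1 := (hf i).comp p s (pullback.fst (O i).ι (O j).ι)
    have h2 := (hf j).comp p s (pullback.snd (O i).ι (O j).ι)
    rw [← Category.assoc] at h1 h2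
    rw [show pullback.snd (O i).ι (O j).ι ≫ (O j).ι = pullback.fst (O i).ι (O j).ι ≫ (O i).ι from
      pullback.condition.symm] at h2
    exact IsExtension.unique p s φ hJ hQ _ h1 h2
  refine ⟨Scheme.Cover.glueMorphisms 𝒰 f hg, ?_, fun W w v e => ?_⟩
  · refine Scheme.Cover.hom_ext 𝒰 _ _ fun i => ?_
    rw [← Category.assoc, Scheme.Cover.ι_glueMorphisms]
    exact (hf i).1
  · refine Scheme.Cover.hom_ext (CategoryTheory.Precoverage.ZeroHypercover.pullback₁ w 𝒰) _ _ fun i => ?_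
    show pullback.fst w (𝒰.f i) ≫ w ≫ _ = pullback.fst w (𝒰.f i) ≫ v ≫ s
    rw [pullback.condition_assoc, Scheme.Cover.ι_glueMorphisms, ← Category.assoc]
    refine (hf i).2 _ _ _ ?_
    show pullback.snd w (𝒰.f i) ≫ (O i).ι ≫ φ = (pullback.fst w (𝒰.f i) ≫ v) ≫ Q.ι
    rw [Category.assoc, ← e]
    exact (pullback.condition_assoc φ).symm

end Groth.RhoShLib
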