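import Mathlib

/-! The content ideal of an inhomogeneous linear system which is injective on all closed fibres. -/

set_option autoImplicit false

universe u v

namespace Groth.RhoShLib

variable {A : Type u} [CommRing A]

/-- A finitely generated module without non-zero functional to a residue field is zero. -/
theorem exists_functional_ne_zero {d : ℕ} (N : Submodule A (Fin d → A)) (hN : N ≠ ⊤) :
    ∃ (m : Ideal A) (_ : m.IsMaximal) (f : (Fin d → A) →ₗ[A] A ⧸ m), N ≤ LinearMap.ker f ∧ f ≠ 0 := by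
  let Q := (Fin d → A) ⧸ N
  have hI : Module.annihilator A Q ≠ ⊤ := by
    intro h
    refine hN (eq_top_iff.2 fun x _ => ?_)
    have h1 : (1 : A) ∈ Module.annihilator A Q := h ▸ trivial
    rw [Module.mem_annihilator] at h1
    exact (Submodule.Quotient.mk_eq_zero N).1 ((one_smul A _).symm.trans (h1 _))
  obtain ⟨m, hm, hle⟩ := Ideal.exists_le_maximal _ hI
  let P : Submodule A Q := m • ⊤
  have hP : P ≠ ⊤ := by
    intro h
    obtain ⟨r, hr, hr0⟩ := Submodule.exists_sub_one_mem_and_smul_eq_zero_of_fg_of_le_smul m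
      (⊤ : Submodule A Q) Module.Finite.fg_top h.ge
    have : r ∈ m := hle (Module.mem_annihilator.2 fun x => hr0 x trivial)
    exact hm.ne_top ((Ideal.eq_top_iff_one m).2 (by simpa using m.sub_mem this hr))
  letI := Ideal.Quotient.field m
  have hnt : Nontrivial (Q ⧸ P) := Submodule.Quotient.nontrivial_iff.2 hP
  obtain ⟨v, hv⟩ := exists_ne (0 : Q ⧸ P)
  letI : Module (A ⧸ m) (Q ⧸ P) := inferInstanceAs (Module (A ⧸ m) (Q ⧸ m • (⊤ : Submodule A Q)))
  haveI : IsScalarTower A (A ⧸ m) (Q ⧸ P) :=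
    inferInstanceAs (IsScalarTower A (A ⧸ m) (Q ⧸ m • (⊤ : Submodule A Q)))
  obtain ⟨φ, hφ⟩ : ∃ φ : (Q ⧸ P) →ₗ[A ⧸ m] A ⧸ m, φ v ≠ 0 := by
    by_contra h
    push Not at h
    exact hv ((Module.forall_dual_apply_eq_zero_iff (A ⧸ m) v).1 h)
  refine ⟨m, hm, (φ.restrictScalars A).comp (P.mkQ.comp N.mkQ), fun x hx => ?_, fun h => hφ ?_⟩
  · rw [LinearMap.mem_ker, LinearMap.comp_apply, LinearMap.comp_apply, Submodule.mkQ_apply N x,
      (Submodule.Quotient.mk_eq_zero N).2 hx, map_zero, map_zero]
  · obtain ⟨q, rfl⟩ := P.mkQ_surjective v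
    obtain ⟨x, rfl⟩ := N.mkQ_surjective q
    exact LinearMap.congr_fun h x

/-- The smallest ideal modulo which the system `M c = G` is solvable. -/
theorem exists_content {ι : Type v} {d : ℕ} (M : ι → Fin d → A) (G : ι → A)
    (hinj : ∀ (m : Ideal A) (_ : m.IsMaximal) (c : Fin d → A ⧸ m),
      (∀ β, ∑ i, Ideal.Quotient.mk m (M β i) * c i = 0) → c = 0) :
    ∃ J : Ideal A, ∀ (R : Type u) [CommRing R] (φ : A →+* R),
      (∃ c : Fin d → R, ∀ β, ∑ i, φ (M β i) * c i = φ (G β)) ↔ J ≤ RingHom.ker φ := by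
  classical
  have hspan : Submodule.span A (Set.range M) = ⊤ := by
    by_contra h
    obtain ⟨m, hm, f, hf, hne⟩ := exists_functional_ne_zero _ h
    have hfe : ∀ x : Fin d → A, f x = ∑ i, Ideal.Quotient.mk m (x i) * f (Pi.single i 1) := fun x => by
      conv_lhs => rw [show x = ∑ i, x i • Pi.single i (1 : A) by simpa using pi_eq_sum_univ' x]
      rw [map_sum]
      exact Finset.sum_congr rfl fun i _ => by rw [map_smul, Algebra.smul_def]; rfl
    have hc := hinj m hm (fun i => f (Pi.single i 1)) fun β =>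
      (hfe (M β)).symm.trans (hf (Submodule.subset_span ⟨β, rfl⟩))
    refine hne (LinearMap.ext fun x => ?_)
    rw [hfe, LinearMap.zero_apply]
    exact Finset.sum_eq_zero fun i _ => by rw [congrFun hc i]; exact mul_zero _
  have hL : ∀ j : Fin d, ∃ l : ι →₀ A, Finsupp.linearCombination A M l = Pi.single j 1 := fun j =>
    (Finsupp.mem_span_range_iff_exists_finsupp.1 (hspan ▸ trivial : Pi.single j 1 ∈ Submodule.span A (Set.range M)))
  choose L hL using hL
  let c0 : Fin d → A := fun j => Finsupp.linearCombination A G (L j)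
  refine ⟨Ideal.span (Set.range fun β => ∑ i, M β i * c0 i - G β), fun R _ φ => ⟨?_, fun h => ?_⟩⟩
  · rintro ⟨c, hc⟩
    have hcj : ∀ j, c j = φ (c0 j) := by
      intro j
      have e : ∀ i, ∑ β ∈ (L j).support, φ (L j β) * φ (M β i) = φ ((Pi.single j 1 : Fin d → A) i) := fun i => by
        rw [← hL j, Finsupp.linearCombination_apply, Finsupp.sum, Finset.sum_apply, map_sum]
        simp
      calc c j = ∑ i, φ ((Pi.single j 1 : Fin d → A) i) * c i := by
            rw [Finset.sum_eq_single j (fun b _ hb => by rw [Pi.single_eq_of_ne hb, map_zero, zero_mul])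
              (fun h => (h (Finset.mem_univ j)).elim), Pi.single_eq_same, map_one, one_mul]
        _ = ∑ β ∈ (L j).support, φ (L j β) * ∑ i, φ (M β i) * c i := by
            simp only [← e, Finset.sum_mul, Finset.mul_sum, mul_assoc]
            exact Finset.sum_comm
        _ = φ (c0 j) := by
            simp only [c0, Finsupp.linearCombination_apply, Finsupp.sum, map_sum, smul_eq_mul, map_mul, hc]
    rw [Ideal.span_le]
    rintro _ ⟨β, rfl⟩
    show φ _ = 0
    rw [map_sub, map_sum, sub_eq_zero, ← hc β]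
    exact Finset.sum_congr rfl fun i _ => by rw [map_mul, hcj]
  · refine ⟨fun i => φ (c0 i), fun β => ?_⟩
    have := h (Ideal.subset_span ⟨β, rfl⟩)
    rw [RingHom.mem_ker, map_sub, map_sum, sub_eq_zero] at this
    rw [← this]
    exact Finset.sum_congr rfl fun i _ => by rw [map_mul]

end Groth.RhoShLib
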