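import Mathlib
import Groth.Agent.RhoShLib.BaseChangeLin
import Groth.Agent.RhoShLib.Content
import Groth.Agent.RhoShLib.Represent

/-! The ideal of the base over which a bounded section is regular. -/

set_option autoImplicit false

universe u

open CategoryTheory CategoryTheory.Limits AlgebraicGeometry TopologicalSpace

noncomputable section

namespace Groth.RhoShLib

variable {X S Z : Scheme.{u}} (a : X ⟶ Z) (b : S ⟶ Z) {T : Scheme.{u}} (g : T ⟶ S)

/-- The projection of the base change to `X`. -/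
abbrev qT : pullback (pullback.snd a b) g ⟶ X := pullback.fst (pullback.snd a b) g ≫ pullback.fst a b

/-- The open over `W` of the base change. -/
abbrev OT (W : X.Opens) : (pullback (pullback.snd a b) g).Opens :=
  qT a b g ⁻¹ᵁ W ⊓ pullback.snd (pullback.snd a b) g ⁻¹ᵁ ⊤

/-- The open over `W` and `U`. -/
abbrev O0 (W : X.Opens) (U : S.Opens) : (pullback a b).Opens :=
  pullback.fst a b ⁻¹ᵁ W ⊓ pullback.snd a b ⁻¹ᵁ U

theorem isPullback_qT : IsPullback (qT a b g) (pullback.snd (pullback.snd a b) g) a (g ≫ b) :=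
  (IsPullback.of_hasPullback (pullback.snd a b) g).paste_horiz (IsPullback.of_hasPullback a b)

theorem OT_le (W : X.Opens) {U : S.Opens} (hg : ⊤ ≤ g ⁻¹ᵁ U) :
    OT a b g W ≤ pullback.fst (pullback.snd a b) g ⁻¹ᵁ O0 a b W U := by
  intro z hz
  refine ⟨hz.1, ?_⟩
  show pullback.snd a b (pullback.fst (pullback.snd a b) g z) ∈ U
  rw [← Scheme.Hom.comp_apply, pullback.condition]
  exact hg (x := pullback.snd (pullback.snd a b) g z) trivial

/-- Pull back to the base change. -/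
abbrev psi (W : X.Opens) {U : S.Opens} (hg : ⊤ ≤ g ⁻¹ᵁ U) :
    Γ(pullback a b, O0 a b W U) ⟶ Γ(pullback (pullback.snd a b) g, OT a b g W) :=
  (pullback.fst (pullback.snd a b) g).appLE _ _ (OT_le a b g W hg)

theorem psi_elem (W : X.Opens) {U : S.Opens} (hg : ⊤ ≤ g ⁻¹ᵁ U) (r : Γ(S, U)) (x : Γ(X, W)) :
    psi a b g W hg (elem (pullback.fst a b) (pullback.snd a b) W U r x) =
      elem (qT a b g) (pullback.snd (pullback.snd a b) g) W ⊤ (g.appLE U ⊤ hg r) x := by
  rw [elem, elem, map_mul]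
  simp only [psi, ← CommRingCat.comp_apply, Scheme.Hom.appLE_comp_appLE, pullback.condition]

theorem psi_fst (W : X.Opens) {U : S.Opens} (hg : ⊤ ≤ g ⁻¹ᵁ U) (x : Γ(X, W)) :
    psi a b g W hg ((pullback.fst a b).appLE W _ inf_le_left x) = (qT a b g).appLE W _ inf_le_left x := by
  simp only [psi, ← CommRingCat.comp_apply, Scheme.Hom.appLE_comp_appLE]

variable [IsAffine Z]

theorem exists_ideal_bounded (hK : IsField Γ(Z, ⊤)) {W : X.Opens} (hW : IsAffineOpen W) (U : S.affineOpens)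
    {d : ℕ} (e : Fin d → Γ(X, W)) (coord : Fin d → Fnl a W)
    (horth : ∀ i i', (coord i).1 (e i') = if i' = i then 1 else 0)
    {ι : Type u} (ν gν : ι → Γ(pullback a b, O0 a b W U.1))
    (hsep : ∀ (T : Scheme.{u}) (g : T ⟶ S), IsAffine T → ∀ (hg : ⊤ ≤ g ⁻¹ᵁ U.1)
      (h : Γ(pullback (pullback.snd a b) g, OT a b g W)), (∀ l, h * psi a b g W hg (ν l) = 0) → h = 0) :
    ∃ J : Ideal Γ(S, U.1), ∀ (T : Scheme.{u}) (g : T ⟶ S), IsAffine T → ∀ (hg : ⊤ ≤ g ⁻¹ᵁ U.1),
      ((∃ c : Fin d → Γ(T, ⊤), ∀ l,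
        (∑ i, elem (qT a b g) (pullback.snd (pullback.snd a b) g) W ⊤ (c i) (e i)) * psi a b g W hg (ν l) =
          psi a b g W hg (gν l)) ↔ J ≤ RingHom.ker (g.appLE U.1 ⊤ hg).hom) := by
  classical
  have H0 := IsPullback.of_hasPullback a b
  let M : ι × Fnl a W → Fin d → Γ(S, U.1) := fun β i =>
    fnlExt H0 hW U.2 β.2 ((pullback.fst a b).appLE W _ inf_le_left (e i) * ν β.1)
  let G : ι × Fnl a W → Γ(S, U.1) := fun β => fnlExt H0 hW U.2 β.2 (gν β.1)
  have key : ∀ (T : Scheme.{u}) (g : T ⟶ S) (_ : IsAffine T) (hg : ⊤ ≤ g ⁻¹ᵁ U.1) (f : Fnl a W)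
      (z : Γ(pullback a b, O0 a b W U.1)),
      fnlExt (isPullback_qT a b g) hW (isAffineOpen_top T) f (psi a b g W hg z) =
        g.appLE U.1 ⊤ hg (fnlExt H0 hW U.2 f z) := fun T g hT hg f z =>
    fnlExt_comp H0 (isPullback_qT a b g) hW hW U.2 (isAffineOpen_top T) f f id (fun _ => rfl)
      (psi a b g W hg).hom.toAddMonoidHom (g.appLE U.1 ⊤ hg).hom
      (fun κ => by
        show ((b.appLE ⊤ U.1 le_top) ≫ g.appLE U.1 ⊤ hg) κ = _
        rw [Scheme.Hom.appLE_comp_appLE])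
      (fun r x => psi_elem a b g W hg r x) z
  have hlin : ∀ (T : Scheme.{u}) (g : T ⟶ S) (_ : IsAffine T) (hg : ⊤ ≤ g ⁻¹ᵁ U.1) (β : ι × Fnl a W)
      (c : Fin d → Γ(T, ⊤)),
      fnlExt (isPullback_qT a b g) hW (isAffineOpen_top T) β.2
        ((∑ i, elem (qT a b g) (pullback.snd (pullback.snd a b) g) W ⊤ (c i) (e i)) * psi a b g W hg (ν β.1)) =
        ∑ i, g.appLE U.1 ⊤ hg (M β i) * c i := by
    intro T g hT hg β c
    rw [Finset.sum_mul, map_sum]
    refine Finset.sum_congr rfl fun i _ => ?_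
    rw [elem, mul_assoc, fnlExt_mul, ← psi_fst a b g W hg, ← map_mul, key T g hT hg, mul_comm]
  have hiff : ∀ (T : Scheme.{u}) (g : T ⟶ S) (_ : IsAffine T) (hg : ⊤ ≤ g ⁻¹ᵁ U.1) (c : Fin d → Γ(T, ⊤))
      (G' : ι → Γ(pullback a b, O0 a b W U.1)),
      (∀ l, (∑ i, elem (qT a b g) (pullback.snd (pullback.snd a b) g) W ⊤ (c i) (e i)) * psi a b g W hg (ν l) =
          psi a b g W hg (G' l)) ↔
        ∀ β : ι × Fnl a W, ∑ i, g.appLE U.1 ⊤ hg (M β i) * c i = g.appLE U.1 ⊤ hg (fnlExt H0 hW U.2 β.2 (G' β.1)) := by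
    intro T g hT hg c G'
    refine ⟨fun h β => by rw [← hlin T g hT hg β c, h, key T g hT hg], fun h l => ?_⟩
    rw [← sub_eq_zero]
    refine fnlExt_sep (isPullback_qT a b g) hK hW (isAffineOpen_top T) _ fun f => ?_
    rw [map_sub, hlin T g hT hg (l, f) c, key T g hT hg]
    exact sub_eq_zero.2 (h (l, f))
  have hinj : ∀ (m : Ideal Γ(S, U.1)) (_ : m.IsMaximal) (c : Fin d → Γ(S, U.1) ⧸ m),
      (∀ β, ∑ i, Ideal.Quotient.mk m (M β i) * c i = 0) → c = 0 := by
    intro m hm c hc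
    let R : CommRingCat.{u} := CommRingCat.of (Γ(S, U.1) ⧸ m)
    let φ : Γ(S, U.1) ⟶ R := CommRingCat.ofHom (Ideal.Quotient.mk m)
    let g : Spec R ⟶ S := Spec.map φ ≫ U.2.fromSpec
    have hg : ⊤ ≤ g ⁻¹ᵁ U.1 := specMap_fromSpec_preimage U.2 φ
    have hgl : g.appLE U.1 ⊤ hg = φ ≫ (Scheme.ΓSpecIso R).inv := specMap_fromSpec_appLE U.2 φ
    let c' : Fin d → Γ(Spec R, ⊤) := fun i => (Scheme.ΓSpecIso R).inv (c i)
    have h0 : ∀ l, (∑ i, elem (qT a b g) (pullback.snd (pullback.snd a b) g) W ⊤ (c' i) (e i)) *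
        psi a b g W hg (ν l) = 0 := by
      intro l
      refine ((hiff (Spec R) g inferInstance hg c' (fun _ => 0)).2 (fun β => ?_) l).trans (map_zero _)
      rw [hgl, map_zero, map_zero]
      show ∑ i, (Scheme.ΓSpecIso R).inv (φ (M β i)) * (Scheme.ΓSpecIso R).inv (c i) = 0
      simp only [← map_mul, ← map_sum]
      exact (congrArg _ (hc β)).trans (map_zero _)
    have h1 := hsep (Spec R) g inferInstance hg _ h0
    funext i
    have h2 := congrArg (fnlExt (isPullback_qT a b g) hW (isAffineOpen_top (Spec R)) (coord i)) h1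
    rw [map_sum, map_zero] at h2
    simp only [fnlExt_elem] at h2
    rw [Finset.sum_eq_single i (fun i' _ hne => by rw [horth, if_neg hne, map_zero, mul_zero])
      (fun h => (h (Finset.mem_univ i)).elim), horth, if_pos rfl, map_one, mul_one] at h2
    exact (ConcreteCategory.bijective_of_isIso (Scheme.ΓSpecIso R).inv).1 (h2.trans (map_zero _).symm)
  obtain ⟨J, hJ⟩ := exists_content M G hinj
  refine ⟨J, fun T g hT hg => ?_⟩
  rw [← hJ Γ(T, ⊤) (g.appLE U.1 ⊤ hg).hom]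
  exact exists_congr fun c => hiff T g hT hg c gν

end Groth.RhoShLib
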