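import Mathlib
import Groth.Agent.RhoShLib.LocalIdeal
import Groth.Agent.RhoShLib.Bound
import Groth.Agent.RhoShLib.ExtPred
import Groth.Agent.RhoShLib.AffineMor

/-! The ideal of extension over one chart. -/

set_option autoImplicit false

universe u

open CategoryTheory CategoryTheory.Limits AlgebraicGeometry TopologicalSpace

noncomputable section

namespace Groth.RhoShLib

variable {P Y : Scheme.{u}} {p : Y ⟶ P} {Q : P.Opens} (s : (Q : Scheme.{u}) ⟶ Y)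

theorem le_preimage_of_section (hs : s ≫ p = Q.ι) (A : P.Opens) : Q.ι ⁻¹ᵁ (A ⊓ Q) ≤ s ⁻¹ᵁ (p ⁻¹ᵁ A) := by
  intro z hz
  show p (s z) ∈ A
  rw [← Scheme.Hom.comp_apply, hs]
  exact hz.1

/-- The values of a partial section. -/
def sigma (hs : s ≫ p = Q.ι) (A : P.Opens) : Γ(Y, p ⁻¹ᵁ A) ⟶ Γ(P, A ⊓ Q) :=
  haveI : IsIso (Q.ι.app (A ⊓ Q)) := Scheme.Hom.isIso_app _ _ (by rw [Scheme.Opens.opensRange_ι]; exact inf_le_right)
  s.appLE (p ⁻¹ᵁ A) (Q.ι ⁻¹ᵁ (A ⊓ Q)) (le_preimage_of_section s hs A) ≫ inv (Q.ι.app (A ⊓ Q))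

theorem sigma_spec (hs : s ≫ p = Q.ι) (A : P.Opens) :
    sigma s hs A ≫ Q.ι.app (A ⊓ Q) = s.appLE (p ⁻¹ᵁ A) (Q.ι ⁻¹ᵁ (A ⊓ Q)) (le_preimage_of_section s hs A) := by
  haveI : IsIso (Q.ι.app (A ⊓ Q)) := Scheme.Hom.isIso_app _ _ (by rw [Scheme.Opens.opensRange_ι]; exact inf_le_right)
  rw [sigma, Category.assoc, IsIso.inv_hom_id, Category.comp_id]

theorem sigma_appLE (hs : s ≫ p = Q.ι) (A : P.Opens) {W : Scheme.{u}} (u : W ⟶ P) (v : W ⟶ (Q : Scheme.{u}))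
    (e : u = v ≫ Q.ι) (h1 : ⊤ ≤ u ⁻¹ᵁ (A ⊓ Q)) (h2 : ⊤ ≤ (v ≫ s) ⁻¹ᵁ (p ⁻¹ᵁ A)) :
    sigma s hs A ≫ u.appLE (A ⊓ Q) ⊤ h1 = (v ≫ s).appLE (p ⁻¹ᵁ A) ⊤ h2 := by
  subst e
  rw [Scheme.Hom.comp_appLE, ← Category.assoc, sigma_spec, Scheme.Hom.appLE_comp_appLE]

theorem sigma_p (hs : s ≫ p = Q.ι) (A : P.Opens) :
    p.app A ≫ sigma s hs A = P.presheaf.map (homOfLE (inf_le_left : A ⊓ Q ≤ A)).op := by
  haveI : IsIso (Q.ι.app (A ⊓ Q)) := Scheme.Hom.isIso_app _ _ (by rw [Scheme.Opens.opensRange_ι]; exact inf_le_right)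
  rw [← cancel_mono (Q.ι.app (A ⊓ Q)), Category.assoc, sigma_spec, ← Scheme.Hom.comp_appLE]
  rw [Scheme.Hom.app_eq_appLE Q.ι, Scheme.Hom.map_appLE]
  simp only [hs]

theorem ι_appLE_injective (E : P.Opens) (h : ⊤ ≤ E.ι ⁻¹ᵁ E) : Function.Injective (E.ι.appLE E ⊤ h) := by
  haveI : IsIso (E.ι.app E) := Scheme.Hom.isIso_app _ _ (by rw [Scheme.Opens.opensRange_ι])
  haveI : IsIso (E.ι.appLE E ⊤ h) := by
    rw [Scheme.Hom.appLE]
    haveI : IsIso (homOfLE h) := ⟨homOfLE le_top, rfl, rfl⟩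
    infer_instance
  exact (ConcreteCategory.bijective_of_isIso _).1

theorem res_res_apply {X : Scheme.{u}} {O₁ O₂ O₃ : X.Opens} (h : O₂ ≤ O₁) (h' : O₃ ≤ O₂) (z : Γ(X, O₁)) :
    X.presheaf.map (homOfLE h').op (X.presheaf.map (homOfLE h).op z) = X.presheaf.map (homOfLE (h'.trans h)).op z := by
  rw [← CommRingCat.comp_apply, ← Functor.map_comp]
  rfl

variable {X S Z : Scheme.{u}} {a : X ⟶ Z} {b : S ⟶ Z}

theorem OTQ_le {T : Scheme.{u}} (g : T ⟶ S) (W : X.Opens) {U : S.Opens} (hg : ⊤ ≤ g ⁻¹ᵁ U) (Q : (pullback a b).Opens) :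
    OT a b g W ⊓ pullback.fst (pullback.snd a b) g ⁻¹ᵁ Q ≤
      pullback.fst (pullback.snd a b) g ⁻¹ᵁ (O0 a b W U ⊓ Q) :=
  fun _ hz => ⟨OT_le a b g W hg hz.1, hz.2⟩

theorem exists_ideal_chart [IsAffine Z] (hK : IsField Γ(Z, ⊤)) {Y : Scheme.{u}} (p : Y ⟶ pullback a b) [IsAffineHom p]
    (I : (pullback a b).IdealSheafData) (hI : BlowUp.IsEffCartierIdeal I)
    (hIT : ∀ (T : Scheme.{u}) (g : T ⟶ S), BlowUp.IsEffCartierIdeal (I.comap (pullback.fst (pullback.snd a b) g)))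
    {Q : (pullback a b).Opens} (hQ : Q = I.support.compl) (s : (Q : Scheme.{u}) ⟶ Y) (hs : s ≫ p = Q.ι)
    {W : X.Opens} (hW : IsAffineOpen W) (U : S.affineOpens) (hO : IsAffineOpen (O0 a b W U.1))
    (G : Finset Γ(Y, p ⁻¹ᵁ O0 a b W U.1))
    (hG : ∀ R : Subring Γ(Y, p ⁻¹ᵁ O0 a b W U.1), (∀ x, p.app (O0 a b W U.1) x ∈ R) → (∀ y ∈ G, y ∈ R) → R = ⊤)
    {N : ℕ} (Uc W' : Fin N → X.Opens) (hUa : ∀ j, IsAffineOpen (Uc j)) (hW'a : ∀ j, IsAffineOpen (W' j))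
    (hW' : ∀ j, W' j ≤ W) (hU' : ∀ j, W' j ≤ Uc j)
    (hbd : ∀ y ∈ G, ∃ r : ∀ j, Γ(X, W' j),
      (∀ _ : IsField Γ(Z, ⊤), ∃ G : Finset Γ(X, W), ∀ x : Γ(X, W),
        (∀ j, ∃ w, X.presheaf.map (homOfLE (hW' j)).op x * r j = X.presheaf.map (homOfLE (hU' j)).op w) →
        ∃ κ : Γ(X, W) → Γ(Z, ⊤), x = ∑ g ∈ G, a.appLE ⊤ W le_top (κ g) * g) ∧
      ∀ j, ∃ yj : Γ(Y, p ⁻¹ᵁ O0 a b (Uc j) U.1),
        Y.presheaf.map (homOfLE (p.preimage_mono (inf_le_inf_right _ ((pullback.fst a b).preimage_mono (hW' j))) :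
          p ⁻¹ᵁ O0 a b (W' j) U.1 ≤ p ⁻¹ᵁ O0 a b W U.1)).op y *
          p.app (O0 a b (W' j) U.1) ((pullback.fst a b).appLE (W' j) _ inf_le_left (r j)) =
        Y.presheaf.map (homOfLE (p.preimage_mono (inf_le_inf_right _ ((pullback.fst a b).preimage_mono (hU' j))) :
          p ⁻¹ᵁ O0 a b (W' j) U.1 ≤ p ⁻¹ᵁ O0 a b (Uc j) U.1)).op yj)
    {ι : Type u} (ν : ι → Γ(pullback a b, O0 a b W U.1)) (hνQ : ∀ l, (pullback a b).basicOpen (ν l) ≤ Q)
    (hνcov : ∀ z ∈ O0 a b W U.1 ⊓ Q, ∃ l, z ∈ (pullback a b).basicOpen (ν l))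
    (hgν : ∀ y ∈ G, ∃ gν : ι → Γ(pullback a b, O0 a b W U.1), ∀ l,
      sigma s hs (O0 a b W U.1) y * (pullback a b).presheaf.map (homOfLE inf_le_left).op (ν l) =
        (pullback a b).presheaf.map (homOfLE (inf_le_left : O0 a b W U.1 ⊓ Q ≤ O0 a b W U.1)).op (gν l)) :
    ∃ J : Ideal Γ(S, U.1), ∀ (T : Scheme.{u}) (g : T ⟶ S), IsAffine T → ∀ (hg : ⊤ ≤ g ⁻¹ᵁ U.1),
      ((∃ f, IsExtension p s (pullback.fst (pullback.snd a b) g) f) → J ≤ RingHom.ker (g.appLE U.1 ⊤ hg).hom) ∧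
      (J ≤ RingHom.ker (g.appLE U.1 ⊤ hg).hom →
        ∃ f, IsExtension p s ((OT a b g W).ι ≫ pullback.fst (pullback.snd a b) g) f) := by
  classical
  have hQT : ∀ (T : Scheme.{u}) (g : T ⟶ S), pullback.fst (pullback.snd a b) g ⁻¹ᵁ Q =
      (I.comap (pullback.fst (pullback.snd a b) g)).support.compl := by
    intro T g
    subst hQ
    ext z
    simp [TopologicalSpace.Closeds.compl, Scheme.IdealSheafData.support_comap]
  have hinj : ∀ (T : Scheme.{u}) (g : T ⟶ S), Function.Injective ((pullback (pullback.snd a b) g).presheaf.map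
      (homOfLE (inf_le_left : OT a b g W ⊓ pullback.fst (pullback.snd a b) g ⁻¹ᵁ Q ≤ OT a b g W)).op) := by
    intro T g
    rw! [hQT T g]
    exact res_injective_compl (hIT T g) _
  have hunit : ∀ (T : Scheme.{u}) (g : T ⟶ S) (hg : ⊤ ≤ g ⁻¹ᵁ U.1) (l : ι),
      IsUnit ((pullback (pullback.snd a b) g).presheaf.map
        (homOfLE ((pullback (pullback.snd a b) g).basicOpen_le (psi a b g W hg (ν l)))).op (psi a b g W hg (ν l))) :=
    fun T g hg l => RingedSpace.isUnit_res_basicOpen _ _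
  have hcov : ∀ (T : Scheme.{u}) (g : T ⟶ S) (hg : ⊤ ≤ g ⁻¹ᵁ U.1) (z),
      z ∈ OT a b g W ⊓ pullback.fst (pullback.snd a b) g ⁻¹ᵁ Q →
      ∃ l, z ∈ (pullback (pullback.snd a b) g).basicOpen (psi a b g W hg (ν l)) := by
    intro T g hg z hz
    obtain ⟨l, hl⟩ := hνcov _ ⟨OT_le a b g W hg hz.1, hz.2⟩
    refine ⟨l, ?_⟩
    rw [psi, Scheme.basicOpen_appLE]
    exact ⟨hz.1, hl⟩
  have hle : ∀ (T : Scheme.{u}) (g : T ⟶ S) (hg : ⊤ ≤ g ⁻¹ᵁ U.1) (l : ι),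
      (pullback (pullback.snd a b) g).basicOpen (psi a b g W hg (ν l)) ≤
        OT a b g W ⊓ pullback.fst (pullback.snd a b) g ⁻¹ᵁ Q := by
    intro T g hg l z hz
    rw [psi, Scheme.basicOpen_appLE] at hz
    exact ⟨hz.1, hνQ l hz.2⟩
  -- equalities on the open part can be checked after multiplying by `ν`
  have hcancel : ∀ (T : Scheme.{u}) (g : T ⟶ S) (hg : ⊤ ≤ g ⁻¹ᵁ U.1)
      (u v : Γ(pullback (pullback.snd a b) g, OT a b g W ⊓ pullback.fst (pullback.snd a b) g ⁻¹ᵁ Q)),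
      (∀ l, u * (pullback (pullback.snd a b) g).presheaf.map (homOfLE inf_le_left).op (psi a b g W hg (ν l)) =
        v * (pullback (pullback.snd a b) g).presheaf.map (homOfLE inf_le_left).op (psi a b g W hg (ν l))) → u = v := by
    intro T g hg u v h
    refine (pullback (pullback.snd a b) g).sheaf.eq_of_locally_eq'
      (fun l => (pullback (pullback.snd a b) g).basicOpen (psi a b g W hg (ν l))) _ (fun l => homOfLE (hle T g hg l))
      (fun z hz => Opens.mem_iSup.2 (hcov T g hg z hz)) _ _ fun l => ?_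
    refine (hunit T g hg l).mul_right_cancel ?_
    have h1 := congrArg ((pullback (pullback.snd a b) g).presheaf.map (homOfLE (hle T g hg l)).op) (h l)
    simp only [map_mul, res_res_apply] at h1
    exact h1
  have hsep : ∀ (T : Scheme.{u}) (g : T ⟶ S), IsAffine T → ∀ (hg : ⊤ ≤ g ⁻¹ᵁ U.1)
      (h : Γ(pullback (pullback.snd a b) g, OT a b g W)), (∀ l, h * psi a b g W hg (ν l) = 0) → h = 0 := by
    intro T g _ hg h hh
    refine hinj T g (Eq.trans ?_ (map_zero _).symm)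
    refine hcancel T g hg _ _ fun l => ?_
    rw [zero_mul, ← map_mul, hh l, map_zero]
  have hJy : ∀ y ∈ G, ∃ J : Ideal Γ(S, U.1), ∀ (T : Scheme.{u}) (g : T ⟶ S), IsAffine T →
      ∀ (hg : ⊤ ≤ g ⁻¹ᵁ U.1),
      ((∃ f, IsExtension p s (pullback.fst (pullback.snd a b) g) f) → J ≤ RingHom.ker (g.appLE U.1 ⊤ hg).hom) ∧
      (J ≤ RingHom.ker (g.appLE U.1 ⊤ hg).hom → ∃ h : Γ(pullback (pullback.snd a b) g, OT a b g W),
        (pullback (pullback.snd a b) g).presheaf.map (homOfLE (inf_le_left :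
          OT a b g W ⊓ pullback.fst (pullback.snd a b) g ⁻¹ᵁ Q ≤ OT a b g W)).op h =
        (pullback.fst (pullback.snd a b) g).appLE _ _ (OTQ_le g W hg Q)
          (sigma s hs (O0 a b W U.1) y)) := by
    intro y hy
    obtain ⟨r, hfin, hyj⟩ := hbd y hy
    obtain ⟨gν, hgy⟩ := hgν y hy
    obtain ⟨d, e, coord, horth, hf⟩ := exists_bound a hK Uc W' hW' hU' r hfin
    obtain ⟨J, hJ⟩ := exists_ideal_bounded a b hK hW U e coord horth ν gν hsep
    refine ⟨J, fun T g hT hg => ?_⟩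
    have hσ : ∀ l, (pullback.fst (pullback.snd a b) g).appLE (O0 a b W U.1 ⊓ Q)
          (OT a b g W ⊓ pullback.fst (pullback.snd a b) g ⁻¹ᵁ Q) (OTQ_le g W hg Q)
          (sigma s hs (O0 a b W U.1) y) *
        (pullback (pullback.snd a b) g).presheaf.map (homOfLE inf_le_left).op (psi a b g W hg (ν l)) =
        (pullback (pullback.snd a b) g).presheaf.map (homOfLE inf_le_left).op (psi a b g W hg (gν l)) := by
      intro l
      have := congrArg ((pullback.fst (pullback.snd a b) g).appLE (O0 a b W U.1 ⊓ Q)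
          (OT a b g W ⊓ pullback.fst (pullback.snd a b) g ⁻¹ᵁ Q) (OTQ_le g W hg Q)) (hgy l)
      simp only [map_mul] at this
      simp only [← CommRingCat.comp_apply, psi, Scheme.Hom.map_appLE, Scheme.Hom.appLE_map] at this ⊢
      exact this
    refine ⟨?_, fun hk => ?_⟩
    · rintro ⟨f, hf1, hf2⟩
      have hfW : ∀ (V : X.Opens), OT a b g V ≤ f ⁻¹ᵁ (p ⁻¹ᵁ O0 a b V U.1) := fun V z hz => by
        show p (f z) ∈ O0 a b V U.1
        rw [← Scheme.Hom.comp_apply, hf1]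
        exact OT_le a b g V hg hz
      let h := f.appLE _ _ (hfW W) y
      have hb := eq_sum_of_bound a (isPullback_qT a b g) hK hW (isAffineOpen_top T) Uc W' hUa hW'a hW' hU' r e coord hf h
        (fun j => by
          obtain ⟨yj, hyj'⟩ := hyj j
          refine ⟨f.appLE _ _ (hfW (Uc j)) yj, ?_⟩
          have := congrArg (f.appLE _ _ (hfW (W' j))) hyj'
          simp only [map_mul] at this
          simp only [h, ← CommRingCat.comp_apply, Scheme.Hom.app_eq_appLE, Scheme.Hom.appLE_comp_appLE, hf1, reassoc_of% hf1,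
            Scheme.Hom.map_appLE, Scheme.Hom.appLE_map] at this ⊢
          exact this)
      refine (hJ T g hT hg).1 ⟨fun i => fnlExt (isPullback_qT a b g) hW (isAffineOpen_top T) (coord i) h, fun l => ?_⟩
      rw [← hb]
      refine hinj T g ?_
      rw [map_mul, ← hσ l]
      congr 1
      let E := OT a b g W ⊓ pullback.fst (pullback.snd a b) g ⁻¹ᵁ Q
      have hEQ : E ≤ pullback.fst (pullback.snd a b) g ⁻¹ᵁ Q := inf_le_right
      refine ι_appLE_injective E (fun z _ => z.2) ?_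
      have e1 : E.ι ≫ pullback.fst (pullback.snd a b) g =
          ((pullback.fst (pullback.snd a b) g).resLE Q E hEQ) ≫ Q.ι :=
        (Scheme.Hom.resLE_comp_ι _ _).symm
      have e2 := hf2 _ E.ι _ e1
      have k1 : ⊤ ≤ (E.ι ≫ f) ⁻¹ᵁ (p ⁻¹ᵁ O0 a b W U.1) := fun z _ => hfW W z.2.1
      have k2 : ⊤ ≤ ((pullback.fst (pullback.snd a b) g).resLE Q E hEQ ≫ s) ⁻¹ᵁ (p ⁻¹ᵁ O0 a b W U.1) :=
        e2 ▸ k1
      have k3 : ⊤ ≤ (E.ι ≫ pullback.fst (pullback.snd a b) g) ⁻¹ᵁ (O0 a b W U.1 ⊓ Q) :=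
        fun z _ => ⟨OT_le a b g W hg z.2.1, z.2.2⟩
      have e3 := sigma_appLE s hs (O0 a b W U.1) _ _ e1 k3 k2
      have e4 : (E.ι ≫ f).appLE (p ⁻¹ᵁ O0 a b W U.1) ⊤ k1 =
          ((pullback.fst (pullback.snd a b) g).resLE Q E hEQ ≫ s).appLE (p ⁻¹ᵁ O0 a b W U.1) ⊤ k2 := by
        simp only [e2]
      simp only [E, h, ← CommRingCat.comp_apply, Scheme.Hom.appLE_map, Scheme.Hom.appLE_comp_appLE, Category.assoc]
      exact congrArg (fun φ => φ y) (e4.trans e3.symm)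
    · obtain ⟨c, hc⟩ := (hJ T g hT hg).2 hk
      refine ⟨∑ i, elem (qT a b g) (pullback.snd (pullback.snd a b) g) W ⊤ (c i) (e i), ?_⟩
      refine hcancel T g hg _ _ fun l => ?_
      rw [← map_mul, hc l]
      exact (hσ l).symm
  choose! Jy hJy using hJy
  refine ⟨⨆ y ∈ G, Jy y, fun T g hT hg => ⟨fun hf => iSup₂_le fun y hy => (hJy y hy T g hT hg).1 hf, fun hk => ?_⟩⟩
  have hD : IsAffineOpen (p ⁻¹ᵁ O0 a b W U.1) := hO.preimage p
  let φ := pullback.fst (pullback.snd a b) g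
  let E := OT a b g W ⊓ φ ⁻¹ᵁ Q
  let res' : Γ(pullback (pullback.snd a b) g, OT a b g W) →+* Γ(pullback (pullback.snd a b) g, E) :=
    ((pullback (pullback.snd a b) g).presheaf.map (homOfLE (inf_le_left : E ≤ OT a b g W)).op).hom
  let φσ : Γ(Y, p ⁻¹ᵁ O0 a b W U.1) →+* Γ(pullback (pullback.snd a b) g, E) :=
    (sigma s hs (O0 a b W U.1) ≫ φ.appLE _ E (OTQ_le g W hg Q)).hom
  have hall : ∀ y, φσ y ∈ res'.range := by
    have htop := hG (res'.range.comap φσ) (fun x => ⟨psi a b g W hg x, ?_⟩) (fun y hy => ?_)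
    · intro y
      have : y ∈ res'.range.comap φσ := htop ▸ trivial
      exact this
    · have e := congrArg (fun ψ => φ.appLE _ E (OTQ_le g W hg Q) (ψ x))
        (sigma_p s hs (O0 a b W U.1))
      refine Eq.trans ?_ e.symm
      show (pullback (pullback.snd a b) g).presheaf.map _ (psi a b g W hg x) = _
      simp only [psi, φ, ← CommRingCat.comp_apply, Scheme.Hom.appLE_map, Scheme.Hom.map_appLE]
      rfl
    · obtain ⟨h, hh⟩ := (hJy y hy T g hT hg).2 (le_trans (le_iSup₂_of_le y hy le_rfl) hk)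
      exact ⟨h, hh⟩
  let eR := RingEquiv.ofBijective res'.rangeRestrict
      ⟨fun u v h => hinj T g (congrArg Subtype.val h), res'.rangeRestrict_surjective⟩
  let ψY : Γ(Y, p ⁻¹ᵁ O0 a b W U.1) →+* Γ(pullback (pullback.snd a b) g, OT a b g W) :=
    eR.symm.toRingHom.comp (φσ.codRestrict res'.range hall)
  have hψ : ∀ y, res' (ψY y) = φσ y := fun y =>
    congrArg Subtype.val (eR.apply_symm_apply (φσ.codRestrict res'.range hall y))
  have hψp : ∀ x, ψY (p.app (O0 a b W U.1) x) = psi a b g W hg x := by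
    intro x
    refine hinj T g ((hψ _).trans ?_)
    have e := congrArg (fun ψ => φ.appLE _ E (OTQ_le g W hg Q) (ψ x))
      (sigma_p s hs (O0 a b W U.1))
    refine e.trans ?_
    simp only [psi, φ, ← CommRingCat.comp_apply, Scheme.Hom.appLE_map, Scheme.Hom.map_appLE]
    rfl
  obtain ⟨u, hu, hu'⟩ := exists_hom_affineOpen hD (OT a b g W) (CommRingCat.ofHom ψY)
  refine ⟨u, ?_, fun W₁ w v e => ?_⟩
  · have k1 : ⊤ ≤ (u ≫ p) ⁻¹ᵁ O0 a b W U.1 := fun z _ => hu (x := z) trivial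
    have k2 : ⊤ ≤ ((OT a b g W).ι ≫ φ) ⁻¹ᵁ O0 a b W U.1 := fun z _ => OT_le a b g W hg z.2
    refine hom_ext_affineOpen hO _ _ k1 k2 ?_
    rw [Scheme.Hom.comp_appLE, hu', ← Scheme.Hom.appLE_comp_appLE (OT a b g W).ι φ (O0 a b W U.1) (OT a b g W) ⊤
      (OT_le a b g W hg) (fun z _ => z.2)]
    ext x
    refine Eq.trans ?_ (congrArg ((OT a b g W).ι.appLE (OT a b g W) ⊤ (fun z _ => z.2)) (hψp x))
    simp only [Scheme.Opens.ι_appLE]
    rfl
  · have k0 : ∀ z, ((w ≫ (OT a b g W).ι) z) ∈ E := fun z => ⟨(w z).2, by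
      show φ ((w ≫ (OT a b g W).ι) z) ∈ Q
      rw [← Scheme.Hom.comp_apply, Category.assoc, e, Scheme.Hom.comp_apply]
      exact (v z).2⟩
    have k1 : ⊤ ≤ (w ≫ u) ⁻¹ᵁ (p ⁻¹ᵁ O0 a b W U.1) := fun z _ => hu (x := w z) trivial
    have k2 : ⊤ ≤ (v ≫ s) ⁻¹ᵁ (p ⁻¹ᵁ O0 a b W U.1) := by
      intro z _
      show p ((v ≫ s) z) ∈ O0 a b W U.1
      rw [← Scheme.Hom.comp_apply, Category.assoc, hs, ← e]
      exact OT_le a b g W hg (w z).2
    have k3 : ⊤ ≤ ((w ≫ (OT a b g W).ι) ≫ φ) ⁻¹ᵁ (O0 a b W U.1 ⊓ Q) :=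
      fun z _ => ⟨OT_le a b g W hg (k0 z).1, (k0 z).2⟩
    refine hom_ext_affineOpen hD _ _ k1 k2 ?_
    rw [← sigma_appLE s hs (O0 a b W U.1) _ v (by rw [Category.assoc]; exact e) k3 k2,
      ← Scheme.Hom.appLE_comp_appLE w u _ ⊤ ⊤ hu le_top, hu',
      ← Scheme.Hom.appLE_comp_appLE (w ≫ (OT a b g W).ι) φ _ E ⊤ (OTQ_le g W hg Q)
        (fun z _ => k0 z)]
    ext y
    have e5 := congrArg ((w ≫ (OT a b g W).ι).appLE E ⊤ (fun z _ => k0 z)) (hψ y)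
    refine Eq.trans ?_ e5
    have k4 : ⊤ ≤ (w ≫ (OT a b g W).ι) ⁻¹ᵁ OT a b g W := fun z _ => (w z).2
    have e6 : (pullback (pullback.snd a b) g).presheaf.map (homOfLE (inf_le_left : E ≤ OT a b g W)).op ≫
        (w ≫ (OT a b g W).ι).appLE E ⊤ (fun z _ => k0 z) = (OT a b g W).topIso.inv ≫ w.appLE ⊤ ⊤ (fun _ _ => trivial) := by
      rw [Scheme.Hom.map_appLE, ← Scheme.Hom.appLE_comp_appLE w (OT a b g W).ι (OT a b g W) ⊤ ⊤ (fun z _ => z.2)
        (fun _ _ => trivial), Scheme.Opens.ι_appLE]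
      rfl
    exact (congrArg (fun ψ => ψ (ψY y)) e6).symm

end Groth.RhoShLib
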