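import Mathlib
import Groth.Agent.RhoShLib.ChartExt
import Groth.Agent.RhoShLib.ChartData

/-! The ideal of extension over the chart of a section of an ample power. -/

set_option autoImplicit false

universe u

open CategoryTheory CategoryTheory.Limits AlgebraicGeometry TopologicalSpace

noncomputable section

namespace Groth.RhoShLib

/-- A section over a smaller affine open becomes extendable after multiplying by a power of `f`. -/
theorem exists_pow_mul_res {P : Scheme.{u}} {A B : P.Opens} (hA : IsAffineOpen A) (hB : IsAffineOpen B)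
    (h : B ≤ A) (f : Γ(P, A)) (hf : P.basicOpen f ≤ B) (x : Γ(P, B)) :
    ∃ n : ℕ, ∀ m, n ≤ m → ∃ g : Γ(P, A), x * P.presheaf.map (homOfLE h).op (f ^ m) = P.presheaf.map (homOfLE h).op g := by
  let f' : Γ(P, B) := P.presheaf.map (homOfLE h).op f
  have hD : P.basicOpen f = P.basicOpen f' := by
    rw [Scheme.basicOpen_res, inf_eq_right.2 hf]
  letI := (P.presheaf.map (homOfLE (P.basicOpen_le f)).op).hom.toAlgebra
  letI := (P.presheaf.map (homOfLE hf).op).hom.toAlgebra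
  haveI : IsLocalization.Away f Γ(P, P.basicOpen f) := hA.isLocalization_basicOpen f
  haveI : IsLocalization.Away f' Γ(P, P.basicOpen f) :=
    hB.isLocalization_of_eq_basicOpen f' (homOfLE hf) hD
  obtain ⟨⟨g, ⟨_, n, rfl⟩⟩, hg⟩ := IsLocalization.surj (Submonoid.powers f) (P.presheaf.map (homOfLE hf).op x)
  have h2 : algebraMap Γ(P, B) Γ(P, P.basicOpen f) (x * f' ^ n) =
      algebraMap Γ(P, B) Γ(P, P.basicOpen f) (P.presheaf.map (homOfLE h).op g) := by
    simp only [RingHom.algebraMap_toAlgebra, map_mul, map_pow, f', res_res_apply] at hg ⊢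
    exact hg
  obtain ⟨⟨_, n', rfl⟩, hn'⟩ := (IsLocalization.eq_iff_exists (Submonoid.powers f') Γ(P, P.basicOpen f)).1 h2
  simp only at hn'
  refine ⟨n' + n, fun m hm => ⟨f ^ (m - n) * g, ?_⟩⟩
  simp only [map_mul, map_pow]
  have e : m - n = (m - (n' + n)) + n' := by omega
  rw [show f' = P.presheaf.map (homOfLE h).op f from rfl] at hn'
  rw [e, pow_add, mul_assoc, ← hn', show m = (m - (n' + n)) + (n' + n) by omega]
  simp only [Nat.add_sub_cancel, pow_add]
  ring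

theorem isAffineOpen_O0 {X S Z : Scheme.{u}} {a : X ⟶ Z} {b : S ⟶ Z} [IsAffine Z] {W : X.Opens}
    (hW : IsAffineOpen W) {U : S.Opens} (hU : IsAffineOpen U) : IsAffineOpen (O0 a b W U) := by
  have H := IsPullback.of_hasPullback a b
  haveI : IsAffine ((⊤ : Z.Opens) : Scheme.{u}) := isAffineOpen_top Z
  haveI : IsAffine (W : Scheme.{u}) := hW
  haveI : IsAffine (U : Scheme.{u}) := hU
  exact .of_isIso (Scheme.Hom.isPullback_resLE H (UT := U) (US := ⊤) (UX := W) le_top le_top rfl).isoPullback.hom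

theorem exists_ideal_gloc (k : Type u) [Field k] {X S Y : Scheme.{u}} {a : X ⟶ Spec (CommRingCat.of k)} [IsProper a]
    [IsIntegral X] {b : S ⟶ Spec (CommRingCat.of k)} (hK : IsField Γ(Spec (CommRingCat.of k), ⊤))
    (p : Y ⟶ pullback a b) [IsAffineHom p] [LocallyOfFiniteType p]
    (I : (pullback a b).IdealSheafData) (hI : BlowUp.IsEffCartierIdeal I)
    (hIT : ∀ (T : Scheme.{u}) (g : T ⟶ S), BlowUp.IsEffCartierIdeal (I.comap (pullback.fst (pullback.snd a b) g)))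
    {Q : (pullback a b).Opens} (hQ : Q = I.support.compl) (s : (Q : Scheme.{u}) ⟶ Y) (hs : s ≫ p = Q.ι)
    {M : X.Modules} (hM : PicF.IsInvertible M) (t : Γ(M, ⊤)) {W : X.Opens}
    (hWt : W = Groth.PropsBasic.Ample.gloc t) (hW : IsAffineOpen W) (hWne : (W : Set X).Nonempty)
    (U : S.affineOpens) :
    ∃ J : Ideal Γ(S, U.1), ∀ (T : Scheme.{u}) (g : T ⟶ S), IsAffine T → ∀ (hg : ⊤ ≤ g ⁻¹ᵁ U.1),
      ((∃ f, IsExtension p s (pullback.fst (pullback.snd a b) g) f) → J ≤ RingHom.ker (g.appLE U.1 ⊤ hg).hom) ∧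
      (J ≤ RingHom.ker (g.appLE U.1 ⊤ hg).hom →
        ∃ f, IsExtension p s ((OT a b g W).ι ≫ pullback.fst (pullback.snd a b) g) f) := by
  classical
  obtain ⟨N, Uc, c, hUc, hW'a, hW', hfin⟩ := exists_chart_data k a hM t hWt hWne
  let W' : Fin N → X.Opens := fun j => X.basicOpen (c j)
  have hU' : ∀ j, W' j ≤ Uc j := fun j => X.basicOpen_le _
  let A := O0 a b W U.1
  have hO : IsAffineOpen A := isAffineOpen_O0 hW U.2
  have hD : IsAffineOpen (p ⁻¹ᵁ A) := hO.preimage p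
  -- generators
  have hft := HasRingHomProperty.appLE (P := @LocallyOfFiniteType) p inferInstance ⟨A, hO⟩ ⟨p ⁻¹ᵁ A, hD⟩ le_rfl
  rw [← Scheme.Hom.app_eq_appLE] at hft
  letI := (p.app A).hom.toAlgebra
  obtain ⟨G, hG⟩ := (show Algebra.FiniteType Γ(pullback a b, A) Γ(Y, p ⁻¹ᵁ A) from hft).out
  have hG' : ∀ R : Subring Γ(Y, p ⁻¹ᵁ A), (∀ x, p.app A x ∈ R) → (∀ y ∈ G, y ∈ R) → R = ⊤ := by
    intro R h1 h2
    let R' : Subalgebra Γ(pullback a b, A) Γ(Y, p ⁻¹ᵁ A) := { R.toSubsemiring with algebraMap_mem' := h1 }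
    have h3 : Algebra.adjoin Γ(pullback a b, A) (G : Set Γ(Y, p ⁻¹ᵁ A)) ≤ R' := Algebra.adjoin_le h2
    rw [hG] at h3
    exact eq_top_iff.2 fun y _ => h3 (x := y) trivial
  -- bounds
  have hbd : ∀ y ∈ G, ∃ r : ∀ j, Γ(X, W' j),
      (∀ _ : IsField Γ(Spec (CommRingCat.of k), ⊤), ∃ G : Finset Γ(X, W), ∀ x : Γ(X, W),
        (∀ j, ∃ w, X.presheaf.map (homOfLE (hW' j)).op x * r j = X.presheaf.map (homOfLE (hU' j)).op w) →
        ∃ κ : Γ(X, W) → Γ(Spec (CommRingCat.of k), ⊤), x = ∑ g ∈ G, a.appLE ⊤ W le_top (κ g) * g) ∧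
      ∀ j, ∃ yj : Γ(Y, p ⁻¹ᵁ O0 a b (Uc j) U.1),
        Y.presheaf.map (homOfLE (p.preimage_mono (inf_le_inf_right _ ((pullback.fst a b).preimage_mono (hW' j))) :
          p ⁻¹ᵁ O0 a b (W' j) U.1 ≤ p ⁻¹ᵁ O0 a b W U.1)).op y *
          p.app (O0 a b (W' j) U.1) ((pullback.fst a b).appLE (W' j) _ inf_le_left (r j)) =
        Y.presheaf.map (homOfLE (p.preimage_mono (inf_le_inf_right _ ((pullback.fst a b).preimage_mono (hU' j))) :
          p ⁻¹ᵁ O0 a b (W' j) U.1 ≤ p ⁻¹ᵁ O0 a b (Uc j) U.1)).op yj := by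
    intro y _
    let γ : ∀ j, Γ(Y, p ⁻¹ᵁ O0 a b (Uc j) U.1) := fun j =>
      p.app (O0 a b (Uc j) U.1) ((pullback.fst a b).appLE (Uc j) _ inf_le_left (c j))
    have hle : ∀ j, p ⁻¹ᵁ O0 a b (W' j) U.1 ≤ p ⁻¹ᵁ O0 a b (Uc j) U.1 :=
      fun j => p.preimage_mono (inf_le_inf_right _ ((pullback.fst a b).preimage_mono (hU' j)))
    have hγ : ∀ j, Y.presheaf.map (homOfLE (hle j)).op (γ j) = p.app (O0 a b (W' j) U.1)
        ((pullback.fst a b).appLE (W' j) _ inf_le_left (X.presheaf.map (homOfLE (hU' j)).op (c j))) := by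
      intro j
      simp only [γ, ← CommRingCat.comp_apply, Scheme.Hom.app_eq_appLE, Scheme.Hom.map_appLE, Scheme.Hom.appLE_map,
        Scheme.Hom.appLE_comp_appLE]
    have hex : ∀ j, ∃ n : ℕ, ∀ m, n ≤ m → ∃ yj : Γ(Y, p ⁻¹ᵁ O0 a b (Uc j) U.1),
        Y.presheaf.map (homOfLE (p.preimage_mono (inf_le_inf_right _ ((pullback.fst a b).preimage_mono (hW' j))) :
          p ⁻¹ᵁ O0 a b (W' j) U.1 ≤ p ⁻¹ᵁ O0 a b W U.1)).op y *
          Y.presheaf.map (homOfLE (hle j)).op (γ j ^ m) = Y.presheaf.map (homOfLE (hle j)).op yj := by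
      intro j
      refine exists_pow_mul_res ((isAffineOpen_O0 (hUc j) U.2).preimage p) ((isAffineOpen_O0 (hW'a j) U.2).preimage p)
        (hle j) (γ j) (le_of_eq ?_) _
      simp only [γ, ← Scheme.preimage_basicOpen, Scheme.basicOpen_appLE]
      ext z
      exact ⟨fun h => ⟨h.2, h.1.2⟩, fun h => ⟨⟨hU' j h.1, h.2⟩, h.1⟩⟩
    choose n hn using hex
    obtain ⟨G₀, hG₀⟩ := hfin (Finset.univ.sup n)
    refine ⟨fun j => X.presheaf.map (homOfLE (hU' j)).op (c j) ^ Finset.univ.sup n, fun _ => ⟨G₀, fun x hx => ?_⟩,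
      fun j => ?_⟩
    · exact hG₀ x fun j h₁ h₂ => hx j
    · obtain ⟨yj, hy⟩ := hn j _ (Finset.le_sup (Finset.mem_univ j))
      refine ⟨yj, ?_⟩
      simp only [map_pow, hγ] at hy ⊢
      exact hy
  -- multipliers
  have hQA : IsAffineOpen (A ⊓ Q) := by
    haveI : IsAffineHom Q.ι := by subst hQ; exact isAffineHom_compl_ι hI
    have h := hO.preimage Q.ι
    rw [← Q.ι.isAffineOpen_iff_of_isOpenImmersion, Scheme.Hom.image_preimage_eq_opensRange_inf,
      Scheme.Opens.opensRange_ι, inf_comm] at h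
    exact h
  let ι := { f : Γ(pullback a b, A) // (pullback a b).basicOpen f ≤ Q ∧ ∀ y ∈ G, ∃ g : Γ(pullback a b, A),
    sigma s hs A y * (pullback a b).presheaf.map (homOfLE inf_le_left).op f =
      (pullback a b).presheaf.map (homOfLE (inf_le_left : A ⊓ Q ≤ A)).op g }
  have hνcov : ∀ z ∈ A ⊓ Q, ∃ l : ι, z ∈ (pullback a b).basicOpen l.1 := by
    intro z hz
    obtain ⟨f, hf, hzf⟩ := hO.exists_basicOpen_le (V := A ⊓ Q) ⟨z, hz⟩ hz.1
    choose n hn using fun y => exists_pow_mul_res hO hQA inf_le_left f hf (sigma s hs A y)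
    have hpos : 0 < G.sup n + 1 := Nat.succ_pos _
    refine ⟨⟨f ^ (G.sup n + 1), ?_, fun y hy => hn y _ ((Finset.le_sup hy).trans (Nat.le_succ _))⟩, ?_⟩
    · rw [Scheme.basicOpen_pow _ _ hpos]; exact hf.trans inf_le_right
    · show z ∈ _
      rw [Scheme.basicOpen_pow _ _ hpos]; exact hzf
  refine exists_ideal_chart hK p I hI hIT hQ s hs hW U hO G hG' Uc W' hUc hW'a hW' hU' hbd
    (fun l : ι => l.1) (fun l => l.2.1) hνcov ?_
  intro y hy
  choose g hg using fun l : ι => l.2.2 y hy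
  exact ⟨g, hg⟩

end Groth.RhoShLib
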