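import Mathlib
import Groth.Agent.RhoShLib.BigOpen

/-! Depth, schematic density and extension across the complement of a big open. -/

set_option autoImplicit false
set_option backward.isDefEq.respectTransparency false

universe u

open CategoryTheory AlgebraicGeometry TopologicalSpace IsLocalRing RingTheory.Sequence Opposite Pointwise

noncomputable section

namespace Groth.RhoShLib

variable {X S : Scheme.{u}} (f : X ⟶ S) [Smooth f]

theorem regular_pair {C : Type*} [CommRing C] {a b : C} (h : IsWeaklyRegular C [a, b]) :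
    IsSMulRegular C a ∧ ∀ u v : C, b * u = a * v → ∃ w, u = a * w := by
  rw [isWeaklyRegular_cons_iff, isWeaklyRegular_cons_iff] at h
  refine ⟨h.1, fun u v huv => ?_⟩
  have h0 : Submodule.Quotient.mk (p := (a • ⊤ : Submodule C C)) u = 0 := h.2.1 (by
    show b • Submodule.Quotient.mk u = b • (0 : QuotSMulTop a C)
    rw [smul_zero, ← Submodule.Quotient.mk_smul, Submodule.Quotient.mk_eq_zero,
      Submodule.mem_smul_pointwise_iff_exists]
    exact ⟨v, trivial, huv.symm⟩)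
  rw [Submodule.Quotient.mk_eq_zero, Submodule.mem_smul_pointwise_iff_exists] at h0
  obtain ⟨w, -, hw⟩ := h0
  exact ⟨w, hw.symm⟩

theorem pow_dvd_of_pair {C : Type*} [CommRing C] {a b : C} (ha : IsSMulRegular C a)
    (h : ∀ u v : C, b * u = a * v → ∃ w, u = a * w) :
    ∀ (n m : ℕ) (u v : C), b ^ m * u = a ^ n * v → ∃ w, u = a ^ n * w := by
  have h1 : ∀ (m : ℕ) (u v : C), b ^ m * u = a * v → ∃ w, u = a * w := by
    intro m
    induction m with
    | zero => exact fun u v huv => ⟨v, by rw [← huv, pow_zero, one_mul]⟩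
    | succ m ih =>
      intro u v huv
      obtain ⟨w, hw⟩ := h (b ^ m * u) v (by rw [← huv]; ring)
      exact ih u w hw
  intro n
  induction n with
  | zero => exact fun m u v _ => ⟨u, by rw [pow_zero, one_mul]⟩
  | succ n ih =>
    intro m u v huv
    obtain ⟨w, rfl⟩ := h1 m u (a ^ n * v) (by rw [huv]; ring)
    obtain ⟨w', rfl⟩ := ih m w v (ha (show a * (b ^ m * w) = a * (a ^ n * v) by
      rw [← mul_left_comm, huv]; ring))
    exact ⟨w', by ring⟩

theorem depth_ge_two (x : X) (hx : (2 : WithBot ℕ∞) ≤ ringKrullDim ↑(CInt.fiberStalk f x)) :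
    (2 : ℕ∞) ≤ LocCoh.depth ↑(X.presheaf.stalk x) ↑(X.presheaf.stalk x) := by
  let U : X.Opens := ⟨(closure {x})ᶜ, isClosed_closure.isOpen_compl⟩
  have hxU : x ∉ U := fun h => h (subset_closure rfl)
  have hU : ∀ y, y ⤳ x → y ∉ U → (2 : WithBot ℕ∞) ≤ ringKrullDim ↑(CInt.fiberStalk f y) := by
    intro y hyx hy
    have hxy : x ⤳ y := specializes_iff_mem_closure.2 (not_not.1 hy)
    rwa [(hyx.antisymm hxy).eq]
  obtain ⟨N, a, b, hxN, -, hab, -, -, hm⟩ := exists_pair f U x hU ⊤ trivial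
  letI := X.presheaf.algebra_section_stalk ⟨x, hxN⟩
  haveI : IsLocalization.AtPrime (X.presheaf.stalk x) (N.2.primeIdealOf ⟨x, hxN⟩).asIdeal :=
    N.2.isLocalization_stalk ⟨x, hxN⟩
  haveI : Module.Flat Γ(X, N.1) (X.presheaf.stalk x) :=
    IsLocalization.flat _ (N.2.primeIdealOf ⟨x, hxN⟩).asIdeal.primeCompl
  have hab' := IsWeaklyRegular.of_flat (S := X.presheaf.stalk x) hab
  refine (Groth.LocCohBase.le_idealDepth_iff_exists (maximalIdeal (X.presheaf.stalk x)) (M := X.presheaf.stalk x)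
    (by rw [smul_eq_mul, Ideal.mul_top]; exact (maximalIdeal.isMaximal _).ne_top) 2).2 ⟨_, rfl, hab', ?_⟩
  intro r hr
  simp only [List.map_cons, List.map_nil, List.mem_cons, List.not_mem_nil, or_false] at hr
  rcases hr with rfl | rfl
  exacts [(hm hxU hxN).1, (hm hxU hxN).2]

omit [Smooth f] in
theorem eq_zero_affine {N : X.Opens} (hN : IsAffineOpen N) (a : Γ(X, N)) (ha : IsSMulRegular Γ(X, N) a)
    (t : Γ(X, N)) (ht : X.presheaf.map (homOfLE (X.basicOpen_le a)).op t = 0) : t = 0 := by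
  haveI := hN.isLocalization_basicOpen a
  obtain ⟨⟨_, n, rfl⟩, hn⟩ := (IsLocalization.map_eq_zero_iff (Submonoid.powers a) Γ(X, X.basicOpen a) t).1 ht
  exact (ha.pow n) (show a ^ n • t = a ^ n • 0 by rw [smul_zero]; exact hn)

omit [Smooth f] in
theorem res_res' {O₁ O₂ O₃ : X.Opens} (h : O₂ ≤ O₁) (h' : O₃ ≤ O₂) (z : Γ(X, O₁)) :
    X.presheaf.map (homOfLE h').op (X.presheaf.map (homOfLE h).op z) = X.presheaf.map (homOfLE (h'.trans h)).op z := by
  rw [← CategoryTheory.comp_apply, ← Functor.map_comp]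
  rfl

theorem eq_zero_of_res (U : X.Opens) (hU : IsBig f U) (V : X.Opens) (t : Γ(X, V))
    (ht : X.presheaf.map (homOfLE (inf_le_left : V ⊓ U ≤ V)).op t = 0) : t = 0 := by
  choose N a b hxN hNV hab ha _ _ using fun p : V => exists_pair f U p.1 (fun y _ => hU y) V p.2
  refine X.sheaf.eq_of_locally_eq' (fun p : V => (N p).1) V (fun p => homOfLE (hNV p))
    (fun z hz => Opens.mem_iSup.2 ⟨⟨z, hz⟩, hxN _⟩) _ _ fun p => ?_
  rw [map_zero]
  refine eq_zero_affine (N p).2 (a p) (regular_pair (hab p)).1 _ ?_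
  have hle : X.basicOpen (a p) ≤ V ⊓ U := le_inf ((X.basicOpen_le _).trans (hNV p)) (ha p)
  have h := congrArg (X.presheaf.map (homOfLE hle).op) ht
  rw [map_zero] at h
  refine Eq.trans ?_ h
  exact (res_res' (hNV p) (X.basicOpen_le (a p)) t).trans (res_res' inf_le_left hle t).symm

theorem isSchematicallyDense (U : X.Opens) (hU : IsBig f U) : CInt.IsSchematicallyDense U := fun V => by
  refine (injective_iff_map_eq_zero _).2 fun t ht => eq_zero_of_res f U hU V t ht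

theorem bijective_res (U : X.Opens) (hU : IsBig f U) (x : X) (O : X.Opens) (hxO : x ∈ O) :
    ∃ N : X.affineOpens, x ∈ N.1 ∧ N.1 ≤ O ∧
      Function.Bijective (X.presheaf.map (homOfLE (inf_le_left : N.1 ⊓ U ≤ N.1)).op) := by
  obtain ⟨N, a, b, hxN, hNO, hab, ha, hb, -⟩ := exists_pair f U x (fun y _ => hU y) O hxO
  refine ⟨N, hxN, hNO, isSchematicallyDense f U hU N.1, fun σ => ?_⟩
  obtain ⟨hra, hrb⟩ := regular_pair hab
  have hla : X.basicOpen a ≤ N.1 ⊓ U := le_inf (X.basicOpen_le a) ha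
  have hlb : X.basicOpen b ≤ N.1 ⊓ U := le_inf (X.basicOpen_le b) hb
  haveI := N.2.isLocalization_basicOpen a
  haveI := N.2.isLocalization_basicOpen b
  obtain ⟨⟨u, _, n, rfl⟩, hu⟩ := IsLocalization.surj (Submonoid.powers a) (X.presheaf.map (homOfLE hla).op σ)
  obtain ⟨⟨v, _, m, rfl⟩, hv⟩ := IsLocalization.surj (Submonoid.powers b) (X.presheaf.map (homOfLE hlb).op σ)
  let r : ∀ {O₁ O₂ : X.Opens} (_ : O₂ ≤ O₁), Γ(X, O₁) →+* Γ(X, O₂) := fun h => (X.presheaf.map (homOfLE h).op).hom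
  have hrr : ∀ {O₁ O₂ O₃ : X.Opens} (h : O₂ ≤ O₁) (h' : O₃ ≤ O₂) (z : Γ(X, O₁)), r h' (r h z) = r (h'.trans h) z :=
    fun h h' z => by
      show (X.presheaf.map (homOfLE h').op) ((X.presheaf.map (homOfLE h).op) z) = _
      rw [← CategoryTheory.comp_apply, ← Functor.map_comp]
      rfl
  change r hla σ * r (X.basicOpen_le a) (a ^ n) = r (X.basicOpen_le a) u at hu
  change r hlb σ * r (X.basicOpen_le b) (b ^ m) = r (X.basicOpen_le b) v at hv
  have hab0 : X.basicOpen (a * b) ≤ X.basicOpen a ∧ X.basicOpen (a * b) ≤ X.basicOpen b := by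
    rw [X.basicOpen_mul]; exact ⟨inf_le_left, inf_le_right⟩
  haveI := N.2.isLocalization_basicOpen (a * b)
  have hkey : r (X.basicOpen_le (a * b)) (b ^ m * u) = r (X.basicOpen_le (a * b)) (a ^ n * v) := by
    have h1 := congrArg (r hab0.1) hu
    have h2 := congrArg (r hab0.2) hv
    simp only [map_mul, hrr] at h1 h2 ⊢
    rw [← h1, ← h2]
    ring
  obtain ⟨⟨_, k, rfl⟩, hk⟩ := (IsLocalization.eq_iff_exists (Submonoid.powers (a * b)) Γ(X, X.basicOpen (a * b))).1 hkey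
  change (a * b) ^ k * (b ^ m * u) = (a * b) ^ k * (a ^ n * v) at hk
  obtain ⟨w, hw⟩ := pow_dvd_of_pair hra hrb n (m + k) u (b ^ k * v) ((hra.pow k)
    (show a ^ k * (b ^ (m + k) * u) = a ^ k * (a ^ n * (b ^ k * v)) by
      calc a ^ k * (b ^ (m + k) * u) = (a * b) ^ k * (b ^ m * u) := by ring
        _ = (a * b) ^ k * (a ^ n * v) := hk
        _ = a ^ k * (a ^ n * (b ^ k * v)) := by ring))
  refine ⟨w, ?_⟩
  have hsub : ∀ d : Γ(X, N.1 ⊓ U), r hla d = 0 → d = 0 := by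
    intro d hd
    choose c hcU hzc using fun z : ↑(N.1 ⊓ U) => N.2.exists_basicOpen_le (V := N.1 ⊓ U) ⟨z.1, z.2⟩ z.2.1
    refine X.sheaf.eq_of_locally_eq' (fun z : ↑(N.1 ⊓ U) => X.basicOpen (c z)) _ (fun z => homOfLE (hcU z))
      (fun z hz => Opens.mem_iSup.2 ⟨⟨z, hz⟩, hzc _⟩) _ _ fun z => ?_
    rw [map_zero]
    letI : Algebra Γ(X, N.1) Γ(X, X.basicOpen (c z)) := (r (X.basicOpen_le (c z))).toAlgebra
    haveI : IsLocalization.Away (c z) Γ(X, X.basicOpen (c z)) := N.2.isLocalization_basicOpen (c z)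
    haveI : Module.Flat Γ(X, N.1) Γ(X, X.basicOpen (c z)) := IsLocalization.flat _ (Submonoid.powers (c z))
    have hreg := (regular_pair (IsWeaklyRegular.of_flat (S := Γ(X, X.basicOpen (c z))) hab)).1
    refine eq_zero_affine (N.2.basicOpen (c z)) _ hreg _ ?_
    have hle : X.basicOpen (r (X.basicOpen_le (c z)) a) ≤ X.basicOpen a :=
      (X.basicOpen_res a (homOfLE (X.basicOpen_le (c z))).op).le.trans inf_le_right
    have h := congrArg (r hle) hd
    rw [map_zero] at h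
    refine Eq.trans ?_ h
    exact (res_res' (hcU z) (X.basicOpen_le _) d).trans (res_res' hla hle d).symm
  refine sub_eq_zero.1 (hsub _ ?_)
  rw [map_sub, sub_eq_zero]
  have hwa : r (X.basicOpen_le a) w * r (X.basicOpen_le a) (a ^ n) = r (X.basicOpen_le a) u := by
    rw [← map_mul, mul_comm, ← hw]
  refine (IsLocalization.map_units Γ(X, X.basicOpen a) (⟨a ^ n, ⟨n, rfl⟩⟩ : Submonoid.powers a)).mul_right_cancel ?_
  show r hla (r inf_le_left w) * r (X.basicOpen_le a) (a ^ n) = r hla σ * r (X.basicOpen_le a) (a ^ n)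
  rw [hu, hrr]
  exact hwa

end Groth.RhoShLib

namespace Groth.RhoShLib

section Hartogs

variable {X S : Scheme.{u}} (f : X ⟶ S) [Smooth f] {Y : Scheme.{u}} (p : Y ⟶ X) [IsAffineHom p]

/-- Maps to an affine scheme only see global functions. -/
theorem existsUnique_extend {T T' Z : Scheme.{u}} [IsAffine Z] (j : T ⟶ T')
    (hj : Function.Bijective j.appTop) (g : T ⟶ Z) : ∃! h : T' ⟶ Z, j ≫ h = g := by
  haveI : IsIso j.appTop := (ConcreteCategory.isIso_iff_bijective _).2 hj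
  refine ⟨T'.toSpecΓ ≫ Spec.map (g.appTop ≫ inv j.appTop) ≫ Z.isoSpec.inv, ?_, fun h hh => ?_⟩
  · dsimp only
    rw [Scheme.toSpecΓ_naturality_assoc, Spec.map_comp, Category.assoc, ← Spec.map_comp_assoc (inv j.appTop),
      IsIso.inv_hom_id, Spec.map_id, Category.id_comp, ← Scheme.toSpecΓ_naturality_assoc]
    exact (congrArg (g ≫ ·) Z.isoSpec.hom_inv_id).trans (Category.comp_id g)
  · refine ext_of_isAffine ?_
    rw [← cancel_mono j.appTop, ← Scheme.Hom.comp_appTop, ← Scheme.Hom.comp_appTop, hh]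
    rw [Scheme.toSpecΓ_naturality_assoc, Spec.map_comp, Category.assoc, ← Spec.map_comp_assoc (inv j.appTop),
      IsIso.inv_hom_id, Spec.map_id, Category.id_comp, ← Scheme.toSpecΓ_naturality_assoc]
    exact congrArg Scheme.Hom.appTop ((congrArg (g ≫ ·) Z.isoSpec.hom_inv_id).trans (Category.comp_id g)).symm

omit [Smooth f] in
theorem homOfLE_appTop_bijective {N N' : X.Opens} (h : N' ≤ N)
    (hb : Function.Bijective (X.presheaf.map (homOfLE h).op)) : Function.Bijective (X.homOfLE h).appTop := by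
  have e : (X.homOfLE h).appTop = N.topIso.hom ≫ X.presheaf.map (homOfLE h).op ≫ N'.topIso.inv := by
    rw [Scheme.homOfLE_appTop]
    simp only [Scheme.Opens.topIso_hom, Scheme.Opens.topIso_inv, eqToHom_op, ← Functor.map_comp]
    rfl
  haveI : IsIso (X.presheaf.map (homOfLE h).op) := (ConcreteCategory.isIso_iff_bijective _).2 hb
  rw [e]
  exact ConcreteCategory.bijective_of_isIso _

/-- The local extension. -/
theorem existsUnique_local (U : X.Opens) (hU : IsBig f U) (x : X) (O : X.Opens) (hxO : x ∈ O) :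
    ∃ N : X.affineOpens, x ∈ N.1 ∧ N.1 ≤ O ∧ ∀ (g : (↑(N.1 ⊓ U) : Scheme.{u}) ⟶ Y), g ≫ p = (N.1 ⊓ U).ι →
      ∃! h : (↑N.1 : Scheme.{u}) ⟶ Y, h ≫ p = N.1.ι ∧ X.homOfLE inf_le_left ≫ h = g := by
  obtain ⟨N, hxN, hNO, hb⟩ := bijective_res f U hU x O hxO
  refine ⟨N, hxN, hNO, fun g hg => ?_⟩
  set j := X.homOfLE (inf_le_left : N.1 ⊓ U ≤ N.1)
  have hj : Function.Bijective j.appTop := homOfLE_appTop_bijective _ hb
  haveI : IsAffine (↑N.1 : Scheme.{u}) := N.2
  have hY : IsAffineOpen (p ⁻¹ᵁ N.1) := N.2.preimage p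
  haveI : IsAffine (↑(p ⁻¹ᵁ N.1) : Scheme.{u}) := hY
  have hrange : ∀ {T : Scheme.{u}} (h : T ⟶ Y) (q : T ⟶ (↑N.1 : Scheme.{u})), h ≫ p = q ≫ N.1.ι →
      Set.range h.base ⊆ Set.range (p ⁻¹ᵁ N.1).ι.base := by
    rintro T h q hq _ ⟨t, rfl⟩
    rw [Scheme.Opens.range_ι]
    show p.base (h.base t) ∈ N.1
    rw [show p.base (h.base t) = N.1.ι.base (q.base t) by rw [← Scheme.Hom.comp_apply, hq]; rfl]
    exact (q.base t).2
  let g' := IsOpenImmersion.lift (p ⁻¹ᵁ N.1).ι g (hrange g j (by rw [hg, Scheme.homOfLE_ι]))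
  obtain ⟨h', hh', hu⟩ := existsUnique_extend j hj g'
  have hp : h' ≫ (p ∣_ N.1) = 𝟙 _ := by
    refine (existsUnique_extend j hj j).unique ?_ (Category.comp_id j)
    rw [← cancel_mono N.1.ι, Category.assoc, Category.assoc, morphismRestrict_ι, reassoc_of% hh',
      IsOpenImmersion.lift_fac_assoc, hg, Scheme.homOfLE_ι]
  refine ⟨h' ≫ (p ⁻¹ᵁ N.1).ι, ⟨?_, ?_⟩, ?_⟩
  · rw [Category.assoc, ← morphismRestrict_ι, reassoc_of% hp]
  · rw [reassoc_of% hh', IsOpenImmersion.lift_fac]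
  · rintro h ⟨h1, h2⟩
    let hl := IsOpenImmersion.lift (p ⁻¹ᵁ N.1).ι h (hrange h (𝟙 _) (by rw [h1, Category.id_comp]))
    have h3 : hl = h' := hu hl (by
      show j ≫ hl = g'
      rw [← cancel_mono (p ⁻¹ᵁ N.1).ι, Category.assoc, IsOpenImmersion.lift_fac, h2, IsOpenImmersion.lift_fac])
    rw [← h3, IsOpenImmersion.lift_fac]

include f in
/-- Two sections agreeing on a big open agree. -/
theorem ext_sections (U : X.Opens) (hU : IsBig f U) {T : Scheme.{u}} (q : T ⟶ X) [IsOpenImmersion q] (a b : T ⟶ Y)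
    (ha : a ≫ p = q) (hb : b ≫ p = q) (hab : (q ⁻¹ᵁ U).ι ≫ a = (q ⁻¹ᵁ U).ι ≫ b) : a = b := by
  choose N hxN hNO hN using fun t : T => existsUnique_local f p U hU (q.base t) q.opensRange ⟨t, rfl⟩
  let ι' := fun t : T => IsOpenImmersion.lift q (N t).1.ι (by
    rw [Scheme.Opens.range_ι]; exact hNO t)
  let O := fun t : T => (ι' t).opensRange
  refine Scheme.Cover.hom_ext (T.openCoverOfIsOpenCover O ?_) _ _ fun t => ?_
  · refine top_unique fun z _ => Opens.mem_iSup.2 ⟨z, ⟨⟨q.base z, hxN z⟩, q.isOpenEmbedding.injective ?_⟩⟩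
    rw [← Scheme.Hom.comp_apply, IsOpenImmersion.lift_fac]
    rfl
  show (O t).ι ≫ a = (O t).ι ≫ b
  rw [← cancel_epi (ι' t).isoOpensRange.hom, Scheme.Hom.isoOpensRange_hom_ι_assoc, Scheme.Hom.isoOpensRange_hom_ι_assoc]
  set g := X.homOfLE (inf_le_left : (N t).1 ⊓ U ≤ (N t).1) ≫ ι' t ≫ a
  refine (hN t g ?_).unique ⟨?_, rfl⟩ ⟨?_, ?_⟩
  · simp only [g, Category.assoc, ha, ι', IsOpenImmersion.lift_fac, Scheme.homOfLE_ι]
  · rw [Category.assoc, ha, IsOpenImmersion.lift_fac]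
  · rw [Category.assoc, hb, IsOpenImmersion.lift_fac]
  · have hr : Set.range (X.homOfLE (inf_le_left : (N t).1 ⊓ U ≤ (N t).1) ≫ ι' t).base ⊆ Set.range (q ⁻¹ᵁ U).ι.base := by
      rintro _ ⟨z, rfl⟩
      rw [Scheme.Opens.range_ι]
      show q.base _ ∈ U
      rw [← Scheme.Hom.comp_apply, Category.assoc, IsOpenImmersion.lift_fac, Scheme.homOfLE_ι]
      exact z.2.2
    have h4 := IsOpenImmersion.lift_fac (q ⁻¹ᵁ U).ι _ hr
    simp only [g]
    rw [← Category.assoc, ← Category.assoc, ← h4, Category.assoc, Category.assoc, hab]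

include f in
theorem existsUnique_section (U : X.Opens) (hU : IsBig f U) (s : (↑U : Scheme.{u}) ⟶ Y) (hs : s ≫ p = U.ι) :
    ∃! t : X ⟶ Y, t ≫ p = 𝟙 X ∧ U.ι ≫ t = s := by
  choose N hxN _ hN using fun x : X => existsUnique_local f p U hU x ⊤ trivial
  choose h hh hh' using fun x : X => (hN x (X.homOfLE (inf_le_right : (N x).1 ⊓ U ≤ U) ≫ s)
    (by rw [Category.assoc, hs, Scheme.homOfLE_ι])).exists
  have hcov : TopologicalSpace.IsOpenCover fun x : X => (N x).1 :=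
    top_unique fun z _ => Opens.mem_iSup.2 ⟨z, hxN z⟩
  let 𝒰 := X.openCoverOfIsOpenCover (fun x : X => (N x).1) hcov
  have key : ∀ (x : X) (T : Scheme.{u}) (q : T ⟶ (↑(N x).1 : Scheme.{u})) (hq : ∀ z, (N x).1.ι.base (q.base z) ∈ U),
      q ≫ h x = IsOpenImmersion.lift U.ι (q ≫ (N x).1.ι) (by
        rintro _ ⟨z, rfl⟩; rw [Scheme.Opens.range_ι]; exact hq z) ≫ s := by
    intro x T q hq
    have hr : Set.range q.base ⊆ Set.range (X.homOfLE (inf_le_left : (N x).1 ⊓ U ≤ (N x).1)).base := by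
      rintro _ ⟨z, rfl⟩
      refine ⟨⟨(N x).1.ι.base (q.base z), (q.base z).2, hq z⟩, Subtype.ext ?_⟩
      rw [Scheme.homOfLE_apply]
      rfl
    conv_lhs => rw [← IsOpenImmersion.lift_fac _ q hr, Category.assoc, hh']
    rw [← Category.assoc]
    congr 1
    rw [← cancel_mono U.ι, IsOpenImmersion.lift_fac, Category.assoc, Scheme.homOfLE_ι]
    conv_rhs => rw [← IsOpenImmersion.lift_fac _ q hr, Category.assoc, Scheme.homOfLE_ι]
  refine ⟨Scheme.Cover.glueMorphisms 𝒰 h (fun x y => ?_), ⟨?_, ?_⟩, ?_⟩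
  · haveI : IsOpenImmersion (Limits.pullback.fst (𝒰.f x) (𝒰.f y) ≫ (N x).1.ι) := inferInstance
    refine ext_sections f p U hU (Limits.pullback.fst (𝒰.f x) (𝒰.f y) ≫ (N x).1.ι) _ _
      (by rw [Category.assoc, hh]) (by rw [Category.assoc, hh]; exact Limits.pullback.condition.symm) ?_
    rw [← Category.assoc, ← Category.assoc, key x _ (((Limits.pullback.fst (𝒰.f x) (𝒰.f y) ≫ (N x).1.ι) ⁻¹ᵁ U).ι ≫ Limits.pullback.fst (𝒰.f x) (𝒰.f y)) (fun (z : ↥((Limits.pullback.fst (𝒰.f x) (𝒰.f y) ≫ (N x).1.ι) ⁻¹ᵁ U)) => z.2), key y _ (((Limits.pullback.fst (𝒰.f x) (𝒰.f y) ≫ (N x).1.ι) ⁻¹ᵁ U).ι ≫ Limits.pullback.snd (𝒰.f x) (𝒰.f y)) (fun (z : ↥((Limits.pullback.fst (𝒰.f x) (𝒰.f y) ≫ (N x).1.ι) ⁻¹ᵁ U)) => by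
      have hc : Limits.pullback.snd (𝒰.f x) (𝒰.f y) ≫ (N y).1.ι = Limits.pullback.fst (𝒰.f x) (𝒰.f y) ≫ (N x).1.ι :=
        Limits.pullback.condition.symm
      rw [← Scheme.Hom.comp_apply, Category.assoc, hc]
      exact z.2)]
    congr 1
    rw [← cancel_mono U.ι, IsOpenImmersion.lift_fac, IsOpenImmersion.lift_fac, Category.assoc, Category.assoc]
    congr 1
    exact Limits.pullback.condition
  · refine Scheme.Cover.hom_ext 𝒰 _ _ fun x => ?_
    rw [Scheme.Cover.ι_glueMorphisms_assoc, hh, Category.comp_id]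
    rfl
  · have hcov' : TopologicalSpace.IsOpenCover fun x : X => U.ι ⁻¹ᵁ (N x).1 :=
      top_unique fun z _ => Opens.mem_iSup.2 ⟨U.ι.base z, hxN _⟩
    refine Scheme.Cover.hom_ext ((↑U : Scheme.{u}).openCoverOfIsOpenCover _ hcov') _ _ fun x => ?_
    show (U.ι ⁻¹ᵁ (N x).1).ι ≫ U.ι ≫ _ = (U.ι ⁻¹ᵁ (N x).1).ι ≫ s
    rw [← morphismRestrict_ι_assoc U.ι (N x).1,
      show (N x).1.ι = 𝒰.f x from rfl, Scheme.Cover.ι_glueMorphisms]
    rw [key x _ (U.ι ∣_ (N x).1) fun z => by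
      rw [← Scheme.Hom.comp_apply, morphismRestrict_ι]; exact ((U.ι ⁻¹ᵁ (N x).1).ι.base z).2]
    congr 1
    rw [← cancel_mono U.ι, IsOpenImmersion.lift_fac, morphismRestrict_ι]
  · rintro t ⟨ht, ht'⟩
    refine Scheme.Cover.hom_ext 𝒰 _ _ fun x => ?_
    rw [Scheme.Cover.ι_glueMorphisms]
    refine ext_sections f p U hU (N x).1.ι _ _ (by rw [Category.assoc, ht, Category.comp_id]; rfl) (hh x) ?_
    rw [key x _ ((N x).1.ι ⁻¹ᵁ U).ι (fun (z : ↥((N x).1.ι ⁻¹ᵁ U)) => z.2), ← ht', ← Category.assoc, IsOpenImmersion.lift_fac_assoc]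
    rfl

end Hartogs

end Groth.RhoShLib
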